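import Cfsg.Agent.SolvStruct.FourPrimes.CentralCase
import Cfsg.Agent.Elementary.ThreePrimes

/-!
A soluble group has no four primes pairwise joined with no three joined.
-/

set_option autoImplicit false
set_option linter.style.haveILetI false
set_option linter.unusedSectionVars false

namespace Cfsg.Lib.FourPrimes

open Subgroup Cfsg.Lib.Coprime

variable {G : Type*} [Group G] [Finite G]

/-- a subgroup whose primes lie in a set is conjugate into a Hall subgroup for that set -/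
theorem exists_rk2_le_hall [Group.IsSolvable G] {π : Set ℕ} {H : Subgroup G} (hH : Cfsg.IsPiHall π H) {p : ℕ}
    [Fact p.Prime] (hp : p ∈ π) {E : Subgroup G} (hE : Rk2 p E) : ∃ E' ≤ H, Rk2 p E' := by
  obtain ⟨g, hg⟩ := le_conj_piHall hH (K := E) fun t ht hd => by
    obtain ⟨k, hk⟩ := IsPGroup.iff_card.1 hE.isPGroup
    rwa [(Nat.prime_dvd_prime_iff_eq ht Fact.out).1 (ht.dvd_of_dvd_pow (hk ▸ hd))]
  refine ⟨E.map (MulAut.conj g⁻¹).toMonoidHom, ?_, hE.map _ (MulAut.conj g⁻¹).injective⟩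
  rintro _ ⟨x, hx, rfl⟩
  have := mem_conjMap.1 (hg hx)
  simpa [mul_assoc] using this

theorem exists_edge_in_hall [Group.IsSolvable G] {π : Set ℕ} {H : Subgroup G} (hH : Cfsg.IsPiHall π H) {p q : ℕ}
    (hp : p.Prime) (hq : q.Prime) (hpπ : p ∈ π) (hqπ : q ∈ π) (hpq : p ≠ q) {x y : G} (hx : orderOf x = p)
    (hy : orderOf y = q) (h : Commute x y) : ∃ a ∈ H, ∃ b ∈ H, orderOf a = p ∧ orderOf b = q ∧ Commute a b := by
  have ho : orderOf (x * y) = p * q := by
    rw [h.orderOf_mul_eq_mul_orderOf_of_coprime (by rw [hx, hy]; exact (Nat.coprime_primes hp hq).2 hpq), hx, hy]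
  obtain ⟨g, hg⟩ := le_conj_piHall hH (K := zpowers (x * y)) fun t ht hd => by
    rw [Nat.card_zpowers, ho] at hd
    rcases ht.dvd_mul.1 hd with hd | hd
    · rwa [(Nat.prime_dvd_prime_iff_eq ht hp).1 hd]
    · rwa [(Nat.prime_dvd_prime_iff_eq ht hq).1 hd]
  have hmem := mem_conjMap.1 (hg (mem_zpowers _))
  set u := g⁻¹ * (x * y) * g
  have hu : orderOf u = p * q := by
    rw [← ho, ← orderOf_injective (MulAut.conj g⁻¹).toMonoidHom (MulAut.conj g⁻¹).injective (x * y)]
    simp [u, mul_assoc]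
  refine ⟨u ^ q, pow_mem hmem q, u ^ p, pow_mem hmem p, ?_, ?_, (Commute.refl u).pow_pow q p⟩
  · rw [orderOf_pow_of_dvd hq.ne_zero (hu ▸ dvd_mul_left q p), hu, Nat.mul_div_cancel _ hq.pos]
  · rw [orderOf_pow_of_dvd hp.ne_zero (hu ▸ dvd_mul_right p q), hu, Nat.mul_div_cancel_left _ hp.pos]

/-- every one of the primes has rank two -/
theorem exists_rk2_of_edges [Group.IsSolvable G] (τ : Finset ℕ) (hτ : 4 ≤ τ.card) (hprime : ∀ p ∈ τ, p.Prime)
    (htri : ∀ {p q r : ℕ}, p ∈ τ → q ∈ τ → r ∈ τ → p ≠ q → p ≠ r → q ≠ r → ∀ {x y z : G}, orderOf x = p →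
      orderOf y = q → orderOf z = r → Commute x y → Commute x z → Commute y z → False)
    (hedge : ∀ p ∈ τ, ∀ q ∈ τ, p ≠ q → ∃ x y : G, orderOf x = p ∧ orderOf y = q ∧ Commute x y) {p : ℕ} (hp : p ∈ τ) :
    ∃ E : Subgroup G, Rk2 p E := by
  haveI := Fact.mk (hprime p hp)
  by_contra hno
  obtain ⟨S⟩ := (inferInstance : Nonempty (Sylow p G))
  have hu : Uniq p (S : Subgroup G) := by
    by_contra h
    obtain ⟨E, -, hE⟩ := exists_rk2_of_not_uniq S.2 h
    exact hno ⟨E, hE⟩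
  obtain ⟨t₀, ht₀, ht₀p⟩ := Finset.exists_mem_ne (by omega : 1 < τ.card) p
  obtain ⟨x₀, -, hx₀, -, -⟩ := hedge p hp t₀ ht₀ ht₀p.symm
  have hne : (S : Subgroup G) ≠ ⊥ := S.ne_bot_of_dvd_card (hx₀ ▸ orderOf_dvd_natCard x₀)
  obtain ⟨z, hz, hzo, -⟩ := exists_center_order S.2 hne
  set C := centralizer ({z} : Set G)
  have hC : ∀ t ∈ τ.erase p, t.Prime ∧ t ∣ Nat.card C := by
    intro t ht
    obtain ⟨htp, htτ⟩ := Finset.mem_erase.1 ht
    refine ⟨hprime t htτ, ?_⟩
    obtain ⟨x, y, hxo, hyo, hxy⟩ := hedge p hp t htτ htp.symm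
    obtain ⟨T, hT⟩ := (isPGroup_zpowers (p := p) hxo).exists_le_sylow
    obtain ⟨g, hg⟩ := MulAction.exists_smul_eq G S T
    have hxT : x ∈ ((g • S : Sylow p G) : Subgroup G) := hg ▸ hT (mem_zpowers x)
    rw [Cfsg.Lib.Transfer.sylow_smul_coe, Cfsg.Lib.Transfer.mem_map_conj] at hxT
    have hxo' : orderOf (g⁻¹ * x * g) = p := by
      rw [← hxo, ← orderOf_injective (MulAut.conj g⁻¹).toMonoidHom (MulAut.conj g⁻¹).injective x]
      simp [mul_assoc]
    have hxz := hu z hz _ hxT hzo hxo'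
    have hcom : Commute (g⁻¹ * x * g) (g⁻¹ * y * g) := by
      simpa [mul_assoc] using hxy.map (MulAut.conj g⁻¹).toMonoidHom
    have hzy : Commute z (g⁻¹ * y * g) :=
      (commute_zpow_of_mem hcom.symm (eq_zpowers_of_mem hxz hzo fun e => (Fact.out : p.Prime).ne_one (by
        rw [← hxo', e, orderOf_one])).2).symm
    refine dvd_card_of_mem (show g⁻¹ * y * g ∈ C from mem_centralizer_singleton_iff.2 hzy.symm.eq) ?_
    rw [← hyo, ← orderOf_injective (MulAut.conj g⁻¹).toMonoidHom (MulAut.conj g⁻¹).injective y]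
    simp [mul_assoc]
  obtain ⟨a, ha, b, hb, hab, w, hw⟩ := Cfsg.Lib.ThreePrimes.edge_solvable (G := C) (τ.erase p)
    (by rw [Finset.card_erase_of_mem hp]; omega) hC
  obtain ⟨hap, haτ⟩ := Finset.mem_erase.1 ha
  obtain ⟨hbp, hbτ⟩ := Finset.mem_erase.1 hb
  have hwo : orderOf (w : G) = a * b := by rw [orderOf_coe, hw]
  have hzw : Commute z (w : G) := (mem_centralizer_singleton_iff.1 w.2).symm
  exact htri hp haτ hbτ hap.symm hbp.symm hab hzo (y := (w : G) ^ b) (z := (w : G) ^ a)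
    (by rw [orderOf_pow_of_dvd (hprime b hbτ).ne_zero (hwo ▸ dvd_mul_left b a), hwo, Nat.mul_div_cancel _ (hprime b hbτ).pos])
    (by rw [orderOf_pow_of_dvd (hprime a haτ).ne_zero (hwo ▸ dvd_mul_right a b), hwo, Nat.mul_div_cancel_left _ (hprime a haτ).pos])
    (hzw.pow_right b) (hzw.pow_right a) ((Commute.refl (w : G)).pow_pow b a)

theorem Cond.pair_of_hall (h : Cond G) {p s : ℕ} {L : Subgroup G} (hp : p.Prime) (hs : s.Prime)
    (hpG : p ∣ Nat.card G) (hsG : s ∣ Nat.card G) (hL : Cfsg.IsPiHall {p, s} L) : Pair p s L := by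
  haveI := h.sol
  haveI := Fact.mk hp; haveI := Fact.mk hs
  obtain ⟨E, hE⟩ := h.rk p hp hpG
  obtain ⟨E', hE'⟩ := h.rk s hs hsG
  exact ⟨fun t ht hd => hL.1 t ht hd, exists_rk2_le_hall hL (Set.mem_insert p _) hE,
    exists_rk2_le_hall hL (Set.mem_insert_of_mem _ rfl) hE'⟩

/-- no group of four primes -/
theorem Cond.false (h : Cond G) {τ : Finset ℕ} (hτ : τ.card = 4) (hprime : ∀ p ∈ τ, p.Prime)
    (hdvd : ∀ p ∈ τ, p ∣ Nat.card G) (hall : ∀ p : ℕ, p.Prime → p ∣ Nat.card G → p ∈ τ) : False := by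
  classical
  haveI := h.sol
  set T : Subgroup G := ⊤
  obtain ⟨r, hr, hR0⟩ : ∃ r ∈ τ, core r T ≠ ⊥ := by
    by_contra hc
    push Not at hc
    obtain ⟨p, hp⟩ := Finset.card_pos.1 (by omega : 0 < τ.card)
    haveI := Fact.mk (hprime p hp)
    obtain ⟨y, hy⟩ := exists_prime_orderOf_dvd_card' p (hdvd p hp)
    have := mem_core_of_centralizes (H := T) (p := p) (mem_top y) (isPGroup_zpowers hy) fun t ht c hct => by
      haveI := Fact.mk ht
      by_cases hd : t ∣ Nat.card G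
      · rw [hc t (hall t ht hd), mem_bot] at hct
        rw [hct]; exact Commute.one_right y
      · rw [core_eq_bot_of_not_dvd (by rwa [Subgroup.card_top]), mem_bot] at hct
        rw [hct]; exact Commute.one_right y
    rw [hc p hp, mem_bot] at this
    exact (hprime p hp).ne_one (by rw [← hy, this, orderOf_one])
  have hnorm : ∀ t, (core t T).Normal := fun t => normalizer_eq_top_iff.1 (top_le_iff.1 fun g _ =>
    core_le_normalizer t T (le_normalizer (mem_top g)))
  have hrp := hprime r hr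
  haveI := Fact.mk hrp
  by_cases htwo : ∃ q ∈ τ, q ≠ r ∧ core q T ≠ ⊥
  · obtain ⟨q, hq, hqr, hW0⟩ := htwo
    have hc2 : ((τ.erase r).erase q).card = 2 := by
      rw [Finset.card_erase_of_mem (Finset.mem_erase.2 ⟨hqr, hq⟩), Finset.card_erase_of_mem hr, hτ]
    obtain ⟨p, s, hps, he⟩ := Finset.card_eq_two.1 hc2
    have hmp : p ∈ (τ.erase r).erase q := by rw [he]; simp
    have hms : s ∈ (τ.erase r).erase q := by rw [he]; simp
    simp only [Finset.mem_erase] at hmp hms
    haveI := Fact.mk (hprime q hq)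
    obtain ⟨L, hL⟩ := exists_piHall (G := G) ({p, s} : Set ℕ)
    have hp := hprime p hmp.2.2
    have hs := hprime s hms.2.2
    haveI := hnorm r; haveI := hnorm q
    exact Two.false (p := p) (s := s) (r := r) (q := q) (R := core r T) (W := core q T) (L := L)
      ⟨h, hp, hs, hrp, hprime q hq, hps, hmp.2.1, hmp.1, hms.2.1, hms.1, hqr.symm, hnorm r, hnorm q,
        core_isPGroup r T, core_isPGroup q T, hR0, hW0,
        fun v hv w hw => Subgroup.commute_of_normal_of_disjoint _ _ (hnorm r) (hnorm q)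
          (disjoint_iff.2 (Cfsg.Lib.Coprime.inf_eq_bot_of_coprime (coprime_of_isPGroup hqr.symm (core_isPGroup r T) (core_isPGroup q T))))
          v w hv hw,
        h.pair_of_hall hp hs (hdvd p hmp.2.2) (hdvd s hms.2.2) hL⟩
  push Not at htwo
  set π : Set ℕ := {t | t ∈ τ ∧ t ≠ r}
  obtain ⟨K, hK⟩ := exists_piHall (G := G) π
  have hKdvd : ∀ t ∈ τ, t ≠ r → t ∣ Nat.card K := fun t ht htr => by
    have h1 := hdvd t ht
    rw [← K.card_mul_index] at h1
    exact ((hprime t ht).dvd_mul.1 h1).resolve_right (hK.2 t (hprime t ht) ⟨ht, htr⟩)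
  have O : One r (core r T) K := by
    refine ⟨h, hrp, hnorm r, core_isPGroup r T, hR0, ?_, fun t ht hd => (hK.1 t ht hd).2, ?_, ?_, ?_, ?_⟩
    · intro k hk hkv
      by_contra hk1
      obtain ⟨t, ht, htk⟩ := Nat.exists_prime_and_dvd (n := orderOf k) fun e => hk1 (orderOf_eq_one_iff.1 e)
      haveI := Fact.mk ht
      obtain ⟨htτ, htr⟩ := hK.1 t ht (htk.trans (Subgroup.orderOf_mk k hk ▸ _root_.orderOf_dvd_natCard (⟨k, hk⟩ : K)))
      obtain ⟨m, hm⟩ := htk
      have hm0 : m ≠ 0 := fun e => (orderOf_pos k).ne' (by rw [hm, e, mul_zero])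
      have ho : orderOf (k ^ m) = t := by
        rw [orderOf_pow_of_dvd hm0 (hm ▸ dvd_mul_left m t), hm, Nat.mul_div_cancel _ (Nat.pos_of_ne_zero hm0)]
      have := mem_core_of_centralizes (H := T) (p := t) (mem_top (k ^ m)) (isPGroup_zpowers ho) fun u hu c hc => by
        haveI := Fact.mk hu
        by_cases hur : u = r
        · subst hur
          exact (hkv c hc).pow_left m
        by_cases hd : u ∣ Nat.card G
        · rw [htwo u (hall u hu hd) hur, mem_bot] at hc
          rw [hc]; exact Commute.one_right _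
        · rw [core_eq_bot_of_not_dvd (by rwa [Subgroup.card_top]), mem_bot] at hc
          rw [hc]; exact Commute.one_right _
      rw [htwo t htτ htr, mem_bot] at this
      rw [this, orderOf_one] at ho
      exact ht.ne_one ho.symm
    · intro q hq hqK
      obtain ⟨hqτ, hqr⟩ := hK.1 q hq hqK
      have hc2 : ((τ.erase r).erase q).card = 2 := by
        rw [Finset.card_erase_of_mem (Finset.mem_erase.2 ⟨hqr, hqτ⟩), Finset.card_erase_of_mem hr, hτ]
      obtain ⟨p, s, hps, he⟩ := Finset.card_eq_two.1 hc2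
      have hmp : p ∈ (τ.erase r).erase q := by rw [he]; simp
      have hms : s ∈ (τ.erase r).erase q := by rw [he]; simp
      simp only [Finset.mem_erase] at hmp hms
      refine ⟨p, s, hprime p hmp.2.2, hprime s hms.2.2, hKdvd p hmp.2.2 hmp.2.1, hKdvd s hms.2.2 hms.2.1, hps, hmp.1,
        hms.1, fun t ht hd => ?_⟩
      obtain ⟨htτ, htr⟩ := hK.1 t ht hd
      by_cases htq : t = q
      · exact Or.inr (Or.inl htq)
      have : t ∈ (τ.erase r).erase q := by simp [Finset.mem_erase, htq, htr, htτ]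
      rw [he] at this
      simp only [Finset.mem_insert, Finset.mem_singleton] at this
      tauto
    · intro t ht hd
      haveI := Fact.mk ht
      obtain ⟨E, hE⟩ := h.rk t ht (hd.trans (card_subgroup_dvd_card K))
      exact exists_rk2_le_hall hK (hK.1 t ht hd) hE
    · intro t u ht hu hdt hdu htu
      obtain ⟨x, y, hx, hy, hxy⟩ := h.edge t u ht hu (hdt.trans (card_subgroup_dvd_card K))
        (hdu.trans (card_subgroup_dvd_card K)) htu
      exact exists_edge_in_hall hK ht hu (hK.1 t ht hdt) (hK.1 u hu hdu) htu hx hy hxy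
    · intro t u ht hu hdt hdu htu
      obtain ⟨L, hL⟩ := exists_piHall (G := G) ({t, u} : Set ℕ)
      obtain ⟨g, hg⟩ := le_conj_piHall hK (K := L) fun v hv hd => by
        rcases hL.1 v hv hd with e | e
        · exact (e : v = t) ▸ hK.1 t ht hdt
        · exact (e : v = u) ▸ hK.1 u hu hdu
      refine ⟨conjMap g⁻¹ L, fun x hx => ?_,
        h.pair_of_hall ht hu (hdt.trans (card_subgroup_dvd_card K)) (hdu.trans (card_subgroup_dvd_card K))
          (isPiHall_conjMap hL g⁻¹)⟩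
      have h1 := mem_conjMap.1 (hg (mem_conjMap.1 hx))
      simpa [mul_assoc] using h1
  have hKne : K ≠ ⊥ := fun e => by
    obtain ⟨t, ht, htr⟩ := Finset.exists_mem_ne (by omega : 1 < τ.card) r
    have := hKdvd t ht htr
    rw [e, card_bot] at this
    exact (hprime t ht).not_dvd_one this
  obtain ⟨q, hq, hqK, hQ⟩ := O.exists_not_uniq hKne
  haveI := Fact.mk hq
  obtain ⟨p, s, hp, hs, hpK, hsK, hps, hpq, hsq, -⟩ := O.three q hq hqK
  obtain ⟨L, hLK, hpair⟩ := O.pair p s hp hs hpK hsK hps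
  set Q := core q K
  have hKQ : K ≤ normalizer (Q : Set G) := fun g hg => core_le_normalizer q K (le_normalizer hg)
  by_cases hZu : Uniq q (omZ q Q)
  · obtain ⟨w, hw, hwo, hwc⟩ := exists_center_order (core_isPGroup q K) fun e => hQ (fun a ha b hb hao _ => by
      rw [show Q = ⊥ from e, mem_bot] at ha
      rw [ha, orderOf_one] at hao
      exact absurd hao.symm hq.ne_one)
    have hwZ : w ∈ omZ q Q := ⟨hw, by rw [← hwo, pow_orderOf_eq_one], hwc⟩
    have hnw : K ≤ normalizer (zpowers w : Set G) := fun g hg => conj_mem_zpowers hZu hwZ hwo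
      (omZ_normalizer q Q (hKQ hg))
    obtain ⟨t, ht, htq⟩ := O.exists_lt (core_le q K hw) hwo hnw
    have hq2 : q ≠ 2 := by have := ht.two_le; omega
    obtain ⟨W, hWQ, heW, hrW, hnW, hcen⟩ := exists_exponent_group hq2 (core_isPGroup q K) hQ
    exact WCase.false (r := r) (R := core r T) (K := K) (q := q) (p := p) (s := s) (w := w) (W := W) (L := L)
      ⟨O, hq, hp, hs, hps, hpq, hsq, hcen w hw hwZ.2.1 hwc, hwo, hnw, hWQ.trans (core_le q K),
        (core_isPGroup q K).to_le hWQ, heW, hrW, fun g hg => hnW g (hKQ hg), hLK, hpair⟩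
  · obtain ⟨A, hA, hA2⟩ := exists_rk2_of_not_uniq (omZ_isPGroup q Q) hZu
    exact ZCase.false (r := r) (R := core r T) (K := K) (q := q) (p := p) (s := s) (Z := omZ q Q) (L := L)
      ⟨O, hq, hp, hs, hps, hpq, hsq, (omZ_le q Q).trans (core_le q K),
        ⟨⟨⟨⟨fun a b => Subtype.ext (omZ_comm q Q a a.2 b b.2)⟩⟩, fun a ha => ha.2.1⟩,
          fun hc => hA2.2 (isCyclic_of_injective (inclusion hA) (inclusion_injective hA))⟩,
        fun g hg => omZ_normalizer q Q (hKQ hg), hLK, hpair⟩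

/-- four primes pairwise joined, no three joined -/
theorem not_isSolvable (σ : Finset ℕ) (hσ : 4 ≤ σ.card) (hprime : ∀ p ∈ σ, p.Prime)
    (h2 : ∀ p ∈ σ, ∀ q ∈ σ, p ≠ q → ∃ g : G, orderOf g = p * q)
    (h3 : ∀ p ∈ σ, ∀ q ∈ σ, ∀ r ∈ σ, p ≠ q → q ≠ r → p ≠ r → ∀ g : G, orderOf g ≠ p * q * r) :
    ¬ Group.IsSolvable G := by
  classical
  intro hsol
  haveI := hsol
  obtain ⟨τ, hτσ, hτ⟩ := Finset.exists_subset_card_eq hσ
  have hpr : ∀ p ∈ τ, p.Prime := fun p hp => hprime p (hτσ hp)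
  obtain ⟨H, hH⟩ := exists_piHall (G := G) (↑τ : Set ℕ)
  have hall : ∀ p : ℕ, p.Prime → p ∣ Nat.card H → p ∈ τ := fun p hp hd => hH.1 p hp hd
  have htri : ∀ {p q r : ℕ}, p ∈ τ → q ∈ τ → r ∈ τ → p ≠ q → p ≠ r → q ≠ r → ∀ {x y z : H}, orderOf x = p →
      orderOf y = q → orderOf z = r → Commute x y → Commute x z → Commute y z → False := by
    intro p q r hp hq hr hpq hpr' hqr x y z hx hy hz hxy hxz hyz
    refine h3 p (hτσ hp) q (hτσ hq) r (hτσ hr) hpq hqr hpr' ((x * y * z : H) : G) ?_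
    rw [orderOf_coe, Commute.orderOf_mul_eq_mul_orderOf_of_coprime (hxz.mul_left hyz) ?_,
      hxy.orderOf_mul_eq_mul_orderOf_of_coprime ?_, hx, hy, hz]
    · rw [hx, hy]; exact (Nat.coprime_primes (hpr p hp) (hpr q hq)).2 hpq
    · rw [hxy.orderOf_mul_eq_mul_orderOf_of_coprime
        (by rw [hx, hy]; exact (Nat.coprime_primes (hpr p hp) (hpr q hq)).2 hpq), hx, hy, hz]
      exact Nat.Coprime.mul_left ((Nat.coprime_primes (hpr p hp) (hpr r hr)).2 hpr')
        ((Nat.coprime_primes (hpr q hq) (hpr r hr)).2 hqr)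
  have hedge : ∀ p ∈ τ, ∀ q ∈ τ, p ≠ q → ∃ x y : H, orderOf x = p ∧ orderOf y = q ∧ Commute x y := by
    intro p hp q hq hpq
    obtain ⟨g, hg⟩ := h2 p (hτσ hp) q (hτσ hq) hpq
    have hP := (hpr p hp).pos; have hQ := (hpr q hq).pos
    obtain ⟨a, ha, b, hb, hao, hbo, hab⟩ := exists_edge_in_hall hH (hpr p hp) (hpr q hq) hp hq hpq
      (x := g ^ q) (y := g ^ p)
      (by rw [orderOf_pow_of_dvd hQ.ne' (hg ▸ dvd_mul_left q p), hg, Nat.mul_div_cancel _ hQ])
      (by rw [orderOf_pow_of_dvd hP.ne' (hg ▸ dvd_mul_right p q), hg, Nat.mul_div_cancel_left _ hP])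
      ((Commute.refl g).pow_pow q p)
    exact ⟨⟨a, ha⟩, ⟨b, hb⟩, by rw [Subgroup.orderOf_mk, hao], by rw [Subgroup.orderOf_mk, hbo], Subtype.ext hab.eq⟩
  have hdvd : ∀ p ∈ τ, p ∣ Nat.card H := fun p hp => by
    obtain ⟨q, hq, hqp⟩ := Finset.exists_mem_ne (by omega : 1 < τ.card) p
    obtain ⟨x, y, hx, -, -⟩ := hedge p hp q hq hqp.symm
    exact hx ▸ orderOf_dvd_natCard x
  have hcond : Cond ↥H :=
    { sol := inferInstance
      tri := fun {p q r} hp hq hr hpq hpr' hqr {x y z} hx hy hz hxy hxz hyz =>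
        htri (hall p hp (hx ▸ orderOf_dvd_natCard x)) (hall q hq (hy ▸ orderOf_dvd_natCard y))
          (hall r hr (hz ▸ orderOf_dvd_natCard z)) hpq hpr' hqr hx hy hz hxy hxz hyz
      rk := fun p hp hd => exists_rk2_of_edges τ hτ.ge hpr
        (fun {p q r} hp hq hr a b c {x y z} d e f g i j => htri hp hq hr a b c d e f g i j) hedge (hall p hp hd)
      edge := fun p q hp hq hdp hdq hpq => hedge p (hall p hp hdp) q (hall q hq hdq) hpq }
  exact hcond.false hτ hpr hdvd hall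

end Cfsg.Lib.FourPrimes
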