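import Cfsg.Agent.Coprime.Hall
import Cfsg.Agent.Coprime.FrobeniusFixed
import Cfsg.Agent.Coprime.Generation
import Cfsg.Agent.Coprime.Fitting
import Cfsg.Agent.Coprime.SolvableBasics
import Cfsg.Agent.Components.PComponents
import Cfsg.Agent.Frobenius.UniqueSubgroup
import Cfsg.Prelude.Def_Transfer
import Mathlib

/-!
General tools for the criterion with four pairwise joined primes.
-/

set_option autoImplicit false
set_option linter.style.haveILetI false
set_option linter.unusedSectionVars false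

namespace Cfsg.Lib.FourPrimes

open Subgroup

variable {G : Type*} [Group G]

/-- An elementary abelian subgroup of rank at least two. -/
def Rk2 (p : ℕ) (E : Subgroup G) : Prop := Cfsg.IsElementaryAbelian p E ∧ ¬ IsCyclic E

/-- All elements of order `p` generate the same subgroup. -/
def Uniq (p : ℕ) (P : Subgroup G) : Prop :=
  ∀ x ∈ P, ∀ y ∈ P, orderOf x = p → orderOf y = p → y ∈ zpowers x

theorem Rk2.pow_eq {p : ℕ} {E : Subgroup G} (h : Rk2 p E) {a : G} (ha : a ∈ E) : a ^ p = 1 := h.1.2 a ha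

theorem Rk2.comm {p : ℕ} {E : Subgroup G} (h : Rk2 p E) {a b : G} (ha : a ∈ E) (hb : b ∈ E) : Commute a b := by
  haveI := h.1.1
  exact congrArg Subtype.val (mul_comm' (⟨a, ha⟩ : E) ⟨b, hb⟩)

theorem Rk2.orderOf_eq {p : ℕ} [Fact p.Prime] {E : Subgroup G} (h : Rk2 p E) {a : G} (ha : a ∈ E) (h1 : a ≠ 1) :
    orderOf a = p := orderOf_eq_prime (h.pow_eq ha) h1

theorem Rk2.isPGroup {p : ℕ} {E : Subgroup G} (h : Rk2 p E) : IsPGroup p E := fun a =>
  ⟨1, Subtype.ext (by rw [pow_one]; exact h.pow_eq a.2)⟩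

theorem Rk2.ne_bot {p : ℕ} {E : Subgroup G} (h : Rk2 p E) : E ≠ ⊥ := fun e => h.2 (by subst e; infer_instance)

theorem Rk2.map {H : Type*} [Group H] {p : ℕ} {E : Subgroup G} (h : Rk2 p E) (f : G →* H) (hf : Function.Injective f) :
    Rk2 p (E.map f) := by
  haveI := h.1.1
  refine ⟨⟨inferInstance, ?_⟩, fun hc => h.2 ((E.equivMapOfInjective f hf).isCyclic.2 hc)⟩
  rintro _ ⟨a, ha, rfl⟩
  rw [← map_pow, h.pow_eq ha, map_one]

/-- some element lies outside any cyclic subgroup -/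
theorem Rk2.exists_not_mem {p : ℕ} {E : Subgroup G} (h : Rk2 p E) (x : G) : ∃ a ∈ E, a ∉ zpowers x := by
  by_contra hc
  push Not at hc
  exact h.2 (isCyclic_of_injective (inclusion hc) (inclusion_injective hc))

theorem Uniq.mono {p : ℕ} {P Q : Subgroup G} (h : Uniq p P) (hQ : Q ≤ P) : Uniq p Q :=
  fun x hx y hy => h x (hQ hx) y (hQ hy)

theorem Rk2.not_uniq {p : ℕ} [hp : Fact p.Prime] {E P : Subgroup G} (h : Rk2 p E) (hE : E ≤ P) : ¬ Uniq p P := fun hu => by
  obtain ⟨a, ha, ha1⟩ := h.exists_not_mem 1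
  have ha1' : a ≠ 1 := fun e => ha1 (by rw [e]; exact one_mem _)
  obtain ⟨b, hb, hb1⟩ := h.exists_not_mem a
  exact hb1 (hu a (hE ha) b (hE hb) (h.orderOf_eq ha ha1')
    (h.orderOf_eq hb fun e => hb1 (by rw [e]; exact one_mem _)))

/-- two commuting elements of order `p` generate an elementary abelian group -/
theorem rk2_pair {p : ℕ} [hp : Fact p.Prime] {x y : G} (hx : orderOf x = p) (hy : orderOf y = p) (h : Commute x y)
    (hn : y ∉ zpowers x) : Rk2 p (closure {x, y}) := by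
  have hc : IsMulCommutative (closure {x, y}) := isMulCommutative_closure fun a ha b hb => by
    rcases ha with rfl | rfl <;> rcases hb with rfl | rfl
    exacts [rfl, h.eq, h.symm.eq, rfl]
  refine ⟨⟨hc, fun a ha => ?_⟩, fun hcyc => hn ?_⟩
  · have key : ∀ a ∈ closure {x, y}, ∀ b ∈ closure {x, y}, Commute a b := fun a ha b hb => by
      haveI := hc
      exact congrArg Subtype.val (mul_comm' (⟨a, ha⟩ : closure {x, y}) ⟨b, hb⟩)
    refine closure_induction (p := fun z _ => z ^ p = 1) ?_ (one_pow _) ?_ ?_ ha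
    · rintro z (rfl | rfl)
      · rw [← hx, pow_orderOf_eq_one]
      · rw [← hy, pow_orderOf_eq_one]
    · intro a b ha hb e₁ e₂
      rw [(key a ha b hb).mul_pow, e₁, e₂, one_mul]
    · intro a _ e
      rw [inv_pow, e, inv_one]
  · haveI := hcyc
    obtain ⟨g, hg⟩ := IsCyclic.exists_generator (α := closure ({x, y} : Set G))
    have hall : ∀ z ∈ closure ({x, y} : Set G), z ∈ zpowers (g : G) := fun z hz => by
      obtain ⟨k, hk⟩ := mem_zpowers_iff.1 (hg ⟨z, hz⟩)
      exact mem_zpowers_iff.2 ⟨k, by rw [← SubgroupClass.coe_zpow, hk]⟩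
    have hxg := hall x (subset_closure (by simp))
    have hyg := hall y (subset_closure (by simp))
    have hg1 : (g : G) ^ p = 1 := by
      refine closure_induction (p := fun z _ => z ^ p = 1) ?_ (one_pow _) ?_ ?_ g.2
      · rintro z (rfl | rfl)
        · rw [← hx, pow_orderOf_eq_one]
        · rw [← hy, pow_orderOf_eq_one]
      · intro a b ha hb e₁ e₂
        haveI := hc
        have hab : Commute a b := congrArg Subtype.val (mul_comm' (⟨a, ha⟩ : closure {x, y}) ⟨b, hb⟩)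
        rw [hab.mul_pow, e₁, e₂, one_mul]
      · intro a _ e
        rw [inv_pow, e, inv_one]
    have hx1 : x ≠ 1 := fun e => by
      rw [e, orderOf_one] at hx; exact hp.out.ne_one hx.symm
    have hgo : orderOf (g : G) = p := orderOf_eq_prime hg1 fun e => hx1 (by
      rw [e, zpowers_one_eq_bot, mem_bot] at hxg; exact hxg)
    haveI : Finite (zpowers (g : G)) := Nat.finite_of_card_ne_zero (by rw [Nat.card_zpowers, hgo]; exact hp.out.ne_zero)
    have he : zpowers x = zpowers (g : G) := eq_of_le_of_card_ge (zpowers_le.2 hxg) (by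
      rw [Nat.card_zpowers, Nat.card_zpowers, hx, hgo])
    rw [he]
    exact hyg

variable [Finite G]

/-- a power of prime order -/
theorem exists_pow_orderOf {p : ℕ} [hp : Fact p.Prime] {P : Subgroup G} (hP : IsPGroup p P) {v : G} (hv : v ∈ P)
    (h1 : v ≠ 1) : ∃ k : ℕ, orderOf (v ^ k) = p := by
  obtain ⟨m, hm⟩ := IsPGroup.iff_orderOf.1 hP ⟨v, hv⟩
  rw [Subgroup.orderOf_mk] at hm
  obtain ⟨m, rfl⟩ : ∃ j, m = j + 1 := ⟨m - 1, by
    rcases Nat.eq_zero_or_pos m with rfl | h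
    · rw [pow_zero] at hm; exact absurd (orderOf_eq_one_iff.1 hm) h1
    · omega⟩
  refine ⟨p ^ m, ?_⟩
  rw [orderOf_pow_of_dvd (pow_ne_zero _ hp.out.ne_zero) (hm ▸ pow_dvd_pow p (Nat.le_succ m)), hm,
    pow_succ, Nat.mul_div_cancel_left _ (pow_pos hp.out.pos m)]

theorem exists_order_of_ne_bot {p : ℕ} [hp : Fact p.Prime] {P : Subgroup G} (hP : IsPGroup p P) (h : P ≠ ⊥) :
    ∃ x ∈ P, orderOf x = p := by
  obtain ⟨⟨v, hv⟩, h1⟩ := ne_bot_iff_exists_ne_one.1 h
  obtain ⟨k, hk⟩ := exists_pow_orderOf hP hv fun e => h1 (Subtype.ext e)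
  exact ⟨_, pow_mem hv k, hk⟩

theorem exists_center_order {p : ℕ} [hp : Fact p.Prime] {P : Subgroup G} (hP : IsPGroup p P) (h : P ≠ ⊥) :
    ∃ x ∈ P, orderOf x = p ∧ ∀ y ∈ P, Commute x y := by
  haveI : Nontrivial P := (Subgroup.nontrivial_iff_ne_bot P).2 h
  haveI := hP.center_nontrivial
  have hc : ((center P).map P.subtype) ≠ ⊥ := by
    rw [Ne, map_eq_bot_iff_of_injective _ P.subtype_injective]
    exact (Subgroup.nontrivial_iff_ne_bot _).1 inferInstance
  obtain ⟨x, hx, hxo⟩ := exists_order_of_ne_bot (hP.to_le (map_subtype_le _)) hc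
  obtain ⟨x', hx', rfl⟩ := hx
  exact ⟨_, x'.2, hxo, fun y hy => (congrArg Subtype.val (mem_center_iff.1 hx' ⟨y, hy⟩)).symm⟩

theorem exists_rk2_of_not_uniq {p : ℕ} [hp : Fact p.Prime] {P : Subgroup G} (hP : IsPGroup p P) (h : ¬ Uniq p P) :
    ∃ E ≤ P, Rk2 p E := by
  simp only [Uniq, not_forall] at h
  obtain ⟨x, hx, y, hy, hxo, hyo, hn⟩ := h
  obtain ⟨z, hz, hzo, hzc⟩ := exists_center_order hP fun e => by
    rw [e, mem_bot] at hx; rw [hx, orderOf_one] at hxo; exact hp.out.ne_one hxo.symm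
  have hle : ∀ u ∈ P, closure {z, u} ≤ P := fun u hu => (closure_le P).2 (by rintro w (rfl | rfl) <;> assumption)
  by_cases hxz : x ∈ zpowers z
  · refine ⟨_, hle y hy, rk2_pair hzo hyo (hzc y hy) fun hyz => hn ?_⟩
    have he : zpowers x = zpowers z := eq_of_le_of_card_ge (zpowers_le.2 hxz) (by
      rw [Nat.card_zpowers, Nat.card_zpowers, hxo, hzo])
    rwa [he]
  · exact ⟨_, hle x hx, rk2_pair hzo hxo (hzc x hx) hxz⟩

/-- in a group with a unique subgroup of order `p` -/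
theorem Uniq.isCyclic {p : ℕ} [Fact p.Prime] {P : Subgroup G} (h : Uniq p P) (hP : IsPGroup p P) (h2 : p ≠ 2) :
    IsCyclic P := by
  rcases Cfsg.Lib.UniqueSub.isCyclic_or_quaternion hP (fun x y hx hy => by
    obtain ⟨k, hk⟩ := mem_zpowers_iff.1 (h x x.2 y y.2 (by rw [orderOf_coe, hx]) (by rw [orderOf_coe, hy]))
    exact mem_zpowers_iff.2 ⟨k, Subtype.ext (by rw [SubgroupClass.coe_zpow, hk])⟩) with h' | ⟨h', -⟩
  · exact h'
  · exact absurd h' h2

theorem coprime_of_isPGroup {p q : ℕ} [Fact p.Prime] [Fact q.Prime] (hpq : p ≠ q) {A B : Subgroup G} (hA : IsPGroup p A)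
    (hB : IsPGroup q B) : (Nat.card A).Coprime (Nat.card B) := IsPGroup.coprime_card_of_ne p q hpq A B hA hB

theorem commute_zpow_of_mem {a x y : G} (h : Commute a x) (hy : y ∈ zpowers x) : Commute a y := by
  obtain ⟨k, rfl⟩ := mem_zpowers_iff.1 hy
  exact h.zpow_right k

theorem eq_zpowers_of_mem {p : ℕ} [hp : Fact p.Prime] {x y : G} (hy : y ∈ zpowers x) (hx : orderOf x = p) (h1 : y ≠ 1) :
    zpowers y = zpowers x ∧ x ∈ zpowers y := by
  have h : zpowers y = zpowers x := eq_of_le_of_card_ge (zpowers_le.2 hy) (by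
    have ho : orderOf y = p := orderOf_eq_prime (orderOf_dvd_iff_pow_eq_one.1 (hx ▸ (Nat.card_zpowers x ▸
      (Subgroup.orderOf_mk y hy ▸ orderOf_dvd_natCard (⟨y, hy⟩ : zpowers x))))) h1
    rw [Nat.card_zpowers, Nat.card_zpowers, hx, ho])
  exact ⟨h, h ▸ mem_zpowers x⟩

theorem exists_fix {p q : ℕ} [Fact p.Prime] [Fact q.Prime] (hpq : p ≠ q) {E V : Subgroup G} (hE : Rk2 p E)
    (hEV : E ≤ normalizer (V : Set G)) (hV : IsPGroup q V) (hV1 : V ≠ ⊥) :
    ∃ a ∈ E, a ≠ 1 ∧ ∃ v ∈ V, v ≠ 1 ∧ Commute a v := by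
  haveI := hE.1.1
  by_contra hc
  push Not at hc
  refine hV1 (eq_bot_iff.2 ?_)
  rw [← Cfsg.Lib.Coprime.centralizerJoin_eq hE.2 hEV (IsPGroup.coprime_card_of_ne p q hpq E V hE.isPGroup hV)]
  refine iSup₂_le fun a ha => ?_
  rintro v ⟨hv, hva⟩
  exact mem_bot.2 (by_contra fun h1 => hc a ha.1 ha.2 v hv h1 (mem_centralizer_singleton_iff.1 hva).symm)

/-- the Frobenius fixed point lemma -/
theorem frob {q : ℕ} [Fact q.Prime] {U V : Subgroup G} {t : G} (hV : IsPGroup q V)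
    (hUV : U ≤ normalizer (V : Set G)) (htV : t ∈ normalizer (V : Set G)) (htU : t ∈ normalizer (U : Set G))
    (hq : ¬ q ∣ Nat.card U) (hqt : ¬ q ∣ orderOf t) (hUt : (Nat.card U).Coprime (orderOf t))
    (hfpf : ∀ e ∈ zpowers t, e ≠ 1 → ∀ u ∈ U, Commute e u → u = 1)
    (hC : ∀ v ∈ V, Commute t v → ∀ u ∈ U, Commute u v) : ∀ u ∈ U, ∀ v ∈ V, Commute u v := by
  set E := zpowers t with hE
  have hEU : E ≤ normalizer (U : Set G) := zpowers_le.2 htU
  have hUE : U ⊓ E = ⊥ := Cfsg.Lib.Coprime.inf_eq_bot_of_coprime (by rw [hE, Nat.card_zpowers]; exact hUt)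
  haveI := hV.isNilpotent
  have hcop : (Nat.card V).Coprime (Nat.card ↥(U ⊔ E)) := by
    rw [Cfsg.Lib.Coprime.card_sup_of_inf_eq_bot hEU hUE, hE, Nat.card_zpowers]
    obtain ⟨k, hk⟩ := IsPGroup.iff_card.1 hV
    rw [hk]
    have hqp : q.Prime := Fact.out
    exact (Nat.Coprime.mul_right (hqp.coprime_iff_not_dvd.2 hq) (hqp.coprime_iff_not_dvd.2 hqt)).pow_left k
  have key := Cfsg.Lib.FixedDim.frobenius_fixed_solvable U E hUE hEU hfpf (Nat.card V) V le_rfl
    (sup_le hUV (zpowers_le.2 htV)) inferInstance hcop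
  have heq : V ⊓ centralizer ((U ⊔ E : Subgroup G) : Set G) = V ⊓ centralizer (E : Set G) := by
    refine le_antisymm (inf_le_inf_left _ (centralizer_le (SetLike.coe_subset_coe.2 le_sup_right))) ?_
    rintro v ⟨hv, hvE⟩
    refine ⟨hv, ?_⟩
    have hvt : Commute t v := mem_centralizer_iff.1 hvE t (mem_zpowers t)
    show v ∈ centralizer ((U ⊔ E : Subgroup G) : Set G)
    rw [← closure_eq U, hE, zpowers_eq_closure, ← Subgroup.closure_union, centralizer_closure]
    rintro w (hw | rfl)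
    exacts [hC v hv hvt w hw, hvt]
  rw [heq] at key
  have hall : V ⊓ centralizer (U : Set G) = V := eq_of_le_of_card_ge inf_le_left
    (Nat.eq_of_mul_eq_mul_left (pow_pos Nat.card_pos _) key).le
  intro u hu v hv
  rw [← hall] at hv
  exact mem_centralizer_iff.1 hv.2 u hu

/-- the part of `A` moved by an element of coprime prime order -/
theorem moved {s : ℕ} [hs : Fact s.Prime] {A : Subgroup G} {p : ℕ} [hp : Fact p.Prime] (hps : p ≠ s)
    (hAc : ∀ a ∈ A, ∀ c ∈ A, Commute a c) (hA : IsPGroup p A) {b : G} (hb : orderOf b = s)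
    (hbA : b ∈ normalizer (A : Set G)) (hmove : ∃ a ∈ A, ¬ Commute b a) :
    ∃ U ≤ A, U ≠ ⊥ ∧ b ∈ normalizer (U : Set G) ∧
      ∀ e ∈ zpowers b, e ≠ 1 → ∀ u ∈ U, Commute e u → u = 1 := by
  have hmem : ∀ a ∈ A, b * a * b⁻¹ * a⁻¹ ∈ A := fun a ha =>
    mul_mem ((mem_normalizer_iff.1 hbA a).1 ha) (inv_mem ha)
  let U : Subgroup G :=
    { carrier := {c | ∃ a ∈ A, c = b * a * b⁻¹ * a⁻¹}
      one_mem' := ⟨1, one_mem _, by group⟩
      mul_mem' := by
        rintro c d ⟨a, ha, rfl⟩ ⟨a', ha', rfl⟩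
        refine ⟨a * a', mul_mem ha ha', ?_⟩
        have h1 : Commute (b * a * b⁻¹ * a⁻¹) (b * a' * b⁻¹) :=
          hAc _ (hmem a ha) _ ((mem_normalizer_iff.1 hbA a').1 ha')
        calc b * a * b⁻¹ * a⁻¹ * (b * a' * b⁻¹ * a'⁻¹) = (b * a * b⁻¹ * a⁻¹) * (b * a' * b⁻¹) * a'⁻¹ := by group
          _ = (b * a' * b⁻¹) * (b * a * b⁻¹ * a⁻¹) * a'⁻¹ := by rw [h1.eq]
          _ = b * (a' * a) * b⁻¹ * (a' * a)⁻¹ := by group
          _ = b * (a * a') * b⁻¹ * (a * a')⁻¹ := by rw [(hAc a' ha' a ha).eq]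
      inv_mem' := by
        rintro c ⟨a, ha, rfl⟩
        refine ⟨a⁻¹, inv_mem ha, ?_⟩
        have h1 : Commute a (b * a⁻¹ * b⁻¹) := hAc _ ha _ ((mem_normalizer_iff.1 hbA _).1 (inv_mem ha))
        calc (b * a * b⁻¹ * a⁻¹)⁻¹ = a * (b * a⁻¹ * b⁻¹) := by group
          _ = (b * a⁻¹ * b⁻¹) * a := h1.eq
          _ = b * a⁻¹ * b⁻¹ * a⁻¹⁻¹ := by rw [inv_inv] }
  refine ⟨U, ?_, ?_, ?_, ?_⟩
  · rintro c ⟨a, ha, rfl⟩
    exact hmem a ha
  · obtain ⟨a, ha, hn⟩ := hmove
    exact fun e => hn (mul_inv_eq_iff_eq_mul.1 (mul_inv_eq_one.1 (mem_bot.1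
      ((SetLike.ext_iff.1 e (b * a * b⁻¹ * a⁻¹)).1 ⟨a, ha, rfl⟩))))
  · rw [← zpowers_le]
    refine zpowers_le.2 (mem_normalizer_fintype ?_)
    rintro c ⟨a, ha, rfl⟩
    exact ⟨b * a * b⁻¹, (mem_normalizer_iff.1 hbA a).1 ha, by group⟩
  · intro e he he1 u hu hcomm
    obtain ⟨he', hbe⟩ := eq_zpowers_of_mem he hb he1
    have hc : Commute b u := (commute_zpow_of_mem hcomm.symm hbe).symm
    obtain ⟨a, ha, rfl⟩ := hu
    set c := b * a * b⁻¹ * a⁻¹ with hc'
    have hpow : ∀ n : ℕ, b ^ n * a * (b ^ n)⁻¹ = c ^ n * a := by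
      intro n
      induction n with
      | zero => simp
      | succ n ih =>
        calc b ^ (n + 1) * a * (b ^ (n + 1))⁻¹ = b * (b ^ n * a * (b ^ n)⁻¹) * b⁻¹ := by
              rw [pow_succ']; group
          _ = b * c ^ n * b⁻¹ * (b * a * b⁻¹) := by rw [ih]; group
          _ = c ^ n * (c * a) := by
              rw [(hc.pow_right n).eq, show c * a = b * a * b⁻¹ by rw [hc']; group]; group
          _ = c ^ (n + 1) * a := by rw [pow_succ]; exact (mul_assoc _ _ _).symm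
    have h1 : c ^ s = 1 := by
      have := hpow s
      rw [← hb, pow_orderOf_eq_one, inv_one, mul_one, one_mul] at this
      rw [← hb]
      exact right_eq_mul.1 this
    obtain ⟨k, hk⟩ := IsPGroup.iff_orderOf.1 hA ⟨c, hmem a ha⟩
    rw [Subgroup.orderOf_mk] at hk
    exact orderOf_eq_one_iff.1 (Nat.eq_one_of_dvd_coprimes
      (((Nat.coprime_primes hp.out hs.out).2 hps).pow_left k) (hk ▸ dvd_rfl) (orderOf_dvd_of_pow_eq_one h1))

/-- An element moving an abelian group faithful on a coprime module has a fixed point there. -/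
theorem fix_of_move {p q s : ℕ} [Fact p.Prime] [hq : Fact q.Prime] [hs : Fact s.Prime] (hps : p ≠ s) (hqp : q ≠ p)
    (hqs : q ≠ s) {A V : Subgroup G} (hAc : ∀ a ∈ A, ∀ c ∈ A, Commute a c) (hA : IsPGroup p A) (hV : IsPGroup q V)
    (hAV : A ≤ normalizer (V : Set G)) {b : G} (hb : orderOf b = s) (hbA : b ∈ normalizer (A : Set G))
    (hbV : b ∈ normalizer (V : Set G)) (hf : ∀ a ∈ A, (∀ v ∈ V, Commute a v) → a = 1)
    (hmove : ∃ a ∈ A, ¬ Commute b a) : ∃ v ∈ V, v ≠ 1 ∧ Commute b v := by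
  obtain ⟨U, hUA, hU, hbU, hfpf⟩ := moved hps hAc hA hb hbA hmove
  by_contra hc
  push Not at hc
  have hall : ∀ u ∈ U, ∀ v ∈ V, Commute u v := by
    refine frob hV (hUA.trans hAV) hbV hbU ?_ ?_ ?_ hfpf fun v hv hbv u _ => ?_
    · intro h
      obtain ⟨k, hk⟩ := IsPGroup.iff_card.1 (hA.to_le hUA)
      exact hqp ((Nat.prime_dvd_prime_iff_eq hq.out Fact.out).1 (hq.out.dvd_of_dvd_pow (hk ▸ h)))
    · rw [hb]
      exact fun h => hqs ((Nat.prime_dvd_prime_iff_eq hq.out hs.out).1 h)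
    · obtain ⟨k, hk⟩ := IsPGroup.iff_card.1 (hA.to_le hUA)
      rw [hb, hk]
      exact ((Nat.coprime_primes Fact.out hs.out).2 hps).pow_left k
    · rw [by_contra fun h1 => hc v hv h1 hbv]
      exact Commute.one_right u
  exact hU (eq_bot_iff.2 fun u hu => mem_bot.2 (hf u (hUA hu) (hall u hu)))

theorem zpowers_comm (x : G) : ∀ a ∈ zpowers x, ∀ c ∈ zpowers x, Commute a c := fun a ha c hc =>
  congrArg Subtype.val (mul_comm' (⟨a, ha⟩ : zpowers x) ⟨c, hc⟩)

theorem isPGroup_zpowers {p : ℕ} [Fact p.Prime] {x : G} (hx : orderOf x = p) : IsPGroup p (zpowers x) :=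
  IsPGroup.of_card (n := 1) (by rw [Nat.card_zpowers, hx, pow_one])

theorem isPGroup_zpowers' {p : ℕ} [Fact p.Prime] {x : G} {k : ℕ} (hx : orderOf x = p ^ k) : IsPGroup p (zpowers x) :=
  IsPGroup.of_card (n := k) (by rw [Nat.card_zpowers, hx])

theorem mem_normalizer_zpowers {g x : G} (h : g * x * g⁻¹ ∈ zpowers x) : g ∈ normalizer (zpowers x : Set G) :=
  mem_normalizer_fintype fun n hn => by
    obtain ⟨k, rfl⟩ := mem_zpowers_iff.1 hn
    rw [← conj_zpow]
    exact Subgroup.zpow_mem _ h k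

/-- commutators of elements normalising a cyclic group centralise it -/
theorem commute_commutator_cyclic {C : Subgroup G} [IsCyclic C] {g h : G} (hg : g ∈ normalizer (C : Set G))
    (hh : h ∈ normalizer (C : Set G)) {c : G} (hc : c ∈ C) : Commute (g * h * g⁻¹ * h⁻¹) c := by
  let φ := C.normalizerMonoidHom
  obtain ⟨i, hi⟩ := MonoidHom.map_cyclic (φ ⟨g, hg⟩).toMonoidHom
  obtain ⟨j, hj⟩ := MonoidHom.map_cyclic (φ ⟨h, hh⟩).toMonoidHom
  have hgh : φ ⟨g, hg⟩ * φ ⟨h, hh⟩ = φ ⟨h, hh⟩ * φ ⟨g, hg⟩ := by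
    ext1 z
    show φ ⟨g, hg⟩ (φ ⟨h, hh⟩ z) = φ ⟨h, hh⟩ (φ ⟨g, hg⟩ z)
    have hi' : ∀ z, φ ⟨g, hg⟩ z = z ^ i := hi
    have hj' : ∀ z, φ ⟨h, hh⟩ z = z ^ j := hj
    rw [hj', hi', hi', hj', ← zpow_mul, ← zpow_mul, mul_comm]
  have h1 : φ (⟨g, hg⟩ * ⟨h, hh⟩ * ⟨g, hg⟩⁻¹ * ⟨h, hh⟩⁻¹) = 1 := by
    rw [map_mul, map_mul, map_mul, map_inv, map_inv, hgh]
    group
  have h2 : (g * h * g⁻¹ * h⁻¹) * c * (g * h * g⁻¹ * h⁻¹)⁻¹ = c :=
    congrArg (fun f : MulAut C => ((f ⟨c, hc⟩ : C) : G)) h1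
  exact mul_inv_eq_iff_eq_mul.1 h2

/-- coprime elements fixing a nontrivial point of a cyclic group centralise it -/
theorem commute_cyclic_of_fix {q t : ℕ} [hq : Fact q.Prime] [Fact t.Prime] (htq : t ≠ q) {C : Subgroup G} [IsCyclic C]
    (hC : IsPGroup q C) {y x : G} (hy : orderOf y = t) (hyC : y ∈ normalizer (C : Set G)) (hx : x ∈ C) (hx1 : x ≠ 1)
    (hyx : Commute y x) : ∀ c ∈ C, Commute y c := by
  by_contra hc
  push Not at hc
  have hCc : ∀ a ∈ C, ∀ c ∈ C, Commute a c := fun a ha c hc =>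
    congrArg Subtype.val (IsCyclic.isMulCommutative.is_comm.comm (⟨a, ha⟩ : C) ⟨c, hc⟩)
  obtain ⟨U, hUC, hU, -, hfpf⟩ := moved htq.symm hCc hC hy hyC hc
  obtain ⟨u, hu, huo⟩ := exists_order_of_ne_bot (hC.to_le hUC) hU
  obtain ⟨k, hk⟩ := exists_pow_orderOf hC hx hx1
  have hun : Uniq q C := by
    intro a ha b hb hao hbo
    classical
    haveI : Fintype C := Fintype.ofFinite C
    have hS : ∀ z ∈ zpowers a, ∀ h : z ∈ C, (⟨z, h⟩ : C) ∈ (Finset.univ.filter fun w : C => w ^ q = 1) := by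
      intro z hz h
      simp only [Finset.mem_filter, Finset.mem_univ, true_and]
      obtain ⟨i, rfl⟩ := mem_zpowers_iff.1 hz
      refine Subtype.ext ?_
      show (a ^ i) ^ q = 1
      rw [← zpow_natCast, ← zpow_mul, mul_comm, zpow_mul, zpow_natCast, ← hao, pow_orderOf_eq_one, one_zpow]
    haveI : Fintype (zpowers a) := Fintype.ofFinite _
    let f : zpowers a → (Finset.univ.filter fun w : C => w ^ q = 1) := fun z =>
      ⟨⟨z, (zpowers_le.2 ha) z.2⟩, hS _ z.2 _⟩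
    have hf : Function.Bijective f := by
      refine (Fintype.bijective_iff_injective_and_card f).2 ⟨fun z w e => Subtype.ext
        (congrArg (fun v : (Finset.univ.filter fun w : C => w ^ q = 1) => ((v : C) : G)) e), le_antisymm ?_ ?_⟩
      · exact Fintype.card_le_of_injective f fun z w e => Subtype.ext
          (congrArg (fun v : (Finset.univ.filter fun w : C => w ^ q = 1) => ((v : C) : G)) e)
      · rw [Fintype.card_coe, ← Nat.card_eq_fintype_card, Nat.card_zpowers, hao]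
        exact IsCyclic.card_pow_eq_one_le hq.out.pos
    have hbS : (⟨b, hb⟩ : C) ∈ (Finset.univ.filter fun w : C => w ^ q = 1) := by
      simp only [Finset.mem_filter, Finset.mem_univ, true_and]
      exact Subtype.ext (by show b ^ q = 1; rw [← hbo, pow_orderOf_eq_one])
    obtain ⟨z, hz⟩ := hf.2 ⟨_, hbS⟩
    have hzb : (z : G) = b := congrArg (fun v : (Finset.univ.filter fun w : C => w ^ q = 1) => ((v : C) : G)) hz
    exact hzb ▸ z.2
  have h2 := commute_zpow_of_mem (hyx.pow_right k) (hun _ (pow_mem hx k) u (hUC hu) hk huo)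
  have hy1 : y ≠ 1 := fun e => (Fact.out : t.Prime).ne_one (by rw [← hy, e, orderOf_one])
  have := hfpf y (mem_zpowers y) hy1 u hu h2
  rw [this, orderOf_one] at huo
  exact hq.out.ne_one huo.symm

/-- an element of `t`-power order normalising a group of order `q`, `t ∤ q - 1`, centralises it -/
theorem commute_of_not_dvd {t q : ℕ} [ht : Fact t.Prime] [hq : Fact q.Prime] {y x : G} {k : ℕ} (hy : orderOf y ∣ t ^ k)
    (hx : orderOf x = q) (hyx : y ∈ normalizer (zpowers x : Set G)) (hn : ¬ t ∣ q - 1) : Commute y x := by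
  set φ := (zpowers x).normalizerMonoidHom
  haveI : IsCyclic (zpowers x) := inferInstance
  have h1 : orderOf (φ ⟨y, hyx⟩) ∣ t ^ k := (orderOf_map_dvd φ _).trans (by rwa [Subgroup.orderOf_mk])
  have h2 : orderOf (φ ⟨y, hyx⟩) ∣ q - 1 := by
    refine (_root_.orderOf_dvd_natCard _).trans ?_
    rw [IsCyclic.card_mulAut, Nat.card_zpowers, hx, Nat.totient_prime hq.out]
  have h3 : orderOf (φ ⟨y, hyx⟩) = 1 :=
    Nat.eq_one_of_dvd_coprimes ((ht.out.coprime_iff_not_dvd.2 hn).pow_left k) h1 h2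
  have h4 : y * x * y⁻¹ = x :=
    congrArg (fun f : MulAut (zpowers x) => ((f ⟨x, mem_zpowers x⟩ : zpowers x) : G)) (orderOf_eq_one_iff.1 h3)
  exact mul_inv_eq_iff_eq_mul.1 h4

theorem not_dvd_sub_one {t q : ℕ} (ht : t.Prime) (hq : q.Prime) (h : q ≤ t) : ¬ t ∣ q - 1 := fun hd => by
  have h2 := hq.two_le
  have := Nat.le_of_dvd (by omega) hd
  omega

/-- in a `p`-group whose central elements of order `p` lie in `⟨x⟩`, some other element of order `p` is
conjugate to all its translates by `⟨x⟩` -/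
theorem exists_translate_conj {p : ℕ} [hp : Fact p.Prime] {P : Subgroup G} (hP : IsPGroup p P) {x : G} (hxP : x ∈ P)
    (hxo : orderOf x = p) (hxc : ∀ y ∈ P, Commute x y)
    (hZ : ∀ y ∈ P, orderOf y = p → (∀ u ∈ P, Commute y u) → y ∈ zpowers x)
    (hz : ∃ z ∈ P, orderOf z = p ∧ z ∉ zpowers x) :
    ∃ z ∈ P, orderOf z = p ∧ z ∉ zpowers x ∧ ∀ i : ℕ, ∃ g ∈ P, g * z * g⁻¹ = x ^ i * z := by
  classical
  set S := {z : G | z ∈ P ∧ orderOf z = p ∧ z ∉ zpowers x}
  obtain ⟨z, ⟨hzP, hzo, hzx⟩, hmax⟩ := Set.exists_max_image S (fun z => Nat.card ↥(P ⊓ centralizer ({z} : Set G)))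
    (Set.toFinite _) hz
  set C := P ⊓ centralizer ({z} : Set G) with hC
  have hzC : z ∈ C := ⟨hzP, mem_centralizer_singleton_iff.2 rfl⟩
  have hlt : C < P := lt_of_le_of_ne inf_le_left fun e => hzx (hZ z hzP hzo fun u hu =>
    (mem_centralizer_singleton_iff.1 (e ▸ hu : u ∈ C).2).symm)
  haveI := hP.isNilpotent
  have hN := Group.normalizerCondition_of_isNilpotent (G := P) (C.subgroupOf P) (lt_top_iff_ne_top.2 fun e =>
    hlt.not_ge (subgroupOf_eq_top.1 e))
  obtain ⟨⟨g, hgP⟩, hgN, hgC⟩ := SetLike.exists_of_lt hN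
  have hgC' : g ∉ C := hgC
  have hconj : ∀ c ∈ C, g * c * g⁻¹ ∈ C := fun c hc =>
    ((mem_normalizer_iff.1 hgN ⟨c, hc.1⟩).1 hc : _)
  set d : G → G := fun u => g * u * g⁻¹ * u⁻¹
  set gs : P := ⟨g, hgP⟩
  have hseq : ∀ k : ℕ, d^[k] z ∈ C ∧ (∀ c ∈ C, Commute (d^[k] z) c) ∧ (d^[k] z) ^ p = 1 ∧
      ∃ h : d^[k] z ∈ P, (⟨_, h⟩ : P) ∈ Subgroup.lowerCentralSeries (⊤ : Subgroup P) k := by
    intro k
    induction k with
    | zero =>
      exact ⟨hzC, fun c hc => (mem_centralizer_singleton_iff.1 hc.2).symm, by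
        rw [Function.iterate_zero_apply, ← hzo, pow_orderOf_eq_one], hzP, by simp⟩
    | succ k ih =>
      obtain ⟨hu, huc, hup, h, hl⟩ := ih
      rw [Function.iterate_succ_apply']
      set u := d^[k] z
      have hgu := hconj u hu
      have hcc : ∀ c ∈ C, Commute (g * u * g⁻¹) c := fun c hc => by
        have hc' : g⁻¹ * c * g ∈ C := by
          have hg' : (gs⁻¹ : P) ∈ normalizer (C.subgroupOf P : Set P) := inv_mem hgN
          have := (mem_normalizer_iff.1 hg' ⟨c, hc.1⟩).1 hc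
          simpa [mem_subgroupOf, gs] using this
        have := (huc _ hc').map (MulAut.conj g).toMonoidHom
        simpa [mul_assoc] using this
      refine ⟨mul_mem hgu (inv_mem hu), fun c hc => (hcc c hc).mul_left (huc c hc).inv_left, ?_,
        mul_mem (mul_mem (mul_mem hgP h) (inv_mem hgP)) (inv_mem h), ?_⟩
      · show (g * u * g⁻¹ * u⁻¹) ^ p = 1
        rw [((huc _ hgu).symm.inv_right).mul_pow, conj_pow, hup, inv_pow, hup]
        group
      · rw [Subgroup.lowerCentralSeries_succ, Subgroup.commutator_comm]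
        exact commutator_mem_commutator (mem_top gs) hl
  obtain ⟨n, hn⟩ := Subgroup.nilpotent_iff_lowerCentralSeries.1 (hP.isNilpotent)
  have hex : ∃ k, d^[k] z = 1 := ⟨n, by
    obtain ⟨-, -, -, h, hl⟩ := hseq n
    rw [hn, mem_bot] at hl
    exact congrArg Subtype.val hl⟩
  have hd1 : d z ≠ 1 := fun e => hgC' ⟨hgP, mem_centralizer_singleton_iff.2
    (mul_inv_eq_iff_eq_mul.1 (mul_inv_eq_one.1 e))⟩
  set m := Nat.find hex with hm
  have hm2 : 2 ≤ m := by
    by_contra hlt'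
    have := Nat.find_spec hex
    rw [← hm] at this
    interval_cases h : m
    · exact hzx (by rw [Function.iterate_zero_apply] at this; rw [this]; exact one_mem _)
    · exact hd1 this
  set z' := d^[m - 2] z
  have hz'1 : d z' ≠ 1 := fun e => Nat.find_min hex (show m - 1 < m by omega) (by
    rw [show m - 1 = (m - 2) + 1 by omega, Function.iterate_succ_apply']; exact e)
  have hv1 : d (d z') = 1 := by
    have := Nat.find_spec hex
    rw [← hm, show m = (m - 2) + 1 + 1 by omega, Function.iterate_succ_apply', Function.iterate_succ_apply'] at this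
    exact this
  obtain ⟨hz'C, -, hz'p, hz'P, -⟩ := hseq (m - 2)
  obtain ⟨hvC, hvc, hvp, hvP, -⟩ := hseq (m - 2 + 1)
  rw [Function.iterate_succ_apply'] at hvC hvc hvp hvP
  set v := d z'
  have hgv : g * v * g⁻¹ = v := mul_inv_eq_one.1 hv1
  have hvx : v ∈ zpowers x := by
    by_contra hvx
    have hmem : v ∈ S := ⟨hvP, orderOf_eq_prime hvp hz'1, hvx⟩
    refine (hmax v hmem).not_gt ?_
    refine Set.ncard_lt_ncard (s := (C : Set G)) (t := (↑(P ⊓ centralizer ({v} : Set G)) : Set G))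
      ⟨fun c hc => ⟨hc.1, mem_centralizer_singleton_iff.2 (hvc c hc).symm⟩, fun hsub => hgC' (hsub ⟨hgP,
        mem_centralizer_singleton_iff.2 (mul_inv_eq_iff_eq_mul.1 hgv)⟩)⟩ (Set.toFinite _)
  have hxv : x ∈ zpowers v := (eq_zpowers_of_mem hvx hxo hz'1).2
  have hz'x : z' ∉ zpowers x := fun h => hz'1 (by
    show g * z' * g⁻¹ * z'⁻¹ = 1
    rw [((commute_zpow_of_mem (hxc g hgP).symm h)).eq]
    group)
  refine ⟨z', hz'P, orderOf_eq_prime hz'p (fun e => hz'x (e ▸ one_mem _)), hz'x, fun i => ?_⟩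
  obtain ⟨j, hj⟩ : ∃ j : ℕ, v ^ j = x ^ i :=
    mem_zpowers_iff_mem_range_orderOf.1 (pow_mem hxv i) |> fun h => by
      simp only [Finset.mem_image, Finset.mem_range] at h
      obtain ⟨j, -, hj⟩ := h
      exact ⟨j, hj⟩
  refine ⟨g ^ j, pow_mem hgP j, ?_⟩
  rw [← hj]
  clear hj
  induction j with
  | zero => simp
  | succ j ih =>
    have hz : g * z' * g⁻¹ = v * z' := by show g * z' * g⁻¹ = g * z' * g⁻¹ * z'⁻¹ * z'; group
    have hvj : g * v ^ j * g⁻¹ = v ^ j := by rw [← conj_pow, hgv]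
    calc g ^ (j + 1) * z' * (g ^ (j + 1))⁻¹ = g * (g ^ j * z' * (g ^ j)⁻¹) * g⁻¹ := by rw [pow_succ']; group
      _ = (g * v ^ j * g⁻¹) * (g * z' * g⁻¹) := by rw [ih]; group
      _ = v ^ (j + 1) * z' := by rw [hvj, hz, pow_succ]; group

/-- the `p`-core of a subgroup -/
noncomputable def core (p : ℕ) (H : Subgroup G) : Subgroup G := (Cfsg.pCore p H).map H.subtype

theorem core_le (p : ℕ) (H : Subgroup G) : core p H ≤ H := map_subtype_le _

theorem core_isPGroup (p : ℕ) [Fact p.Prime] (H : Subgroup G) : IsPGroup p (core p H) :=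
  (Cfsg.Lib.Components.isPGroup_pCore p).map _

theorem core_le_normalizer (p : ℕ) (H : Subgroup G) :
    normalizer (H : Set G) ≤ normalizer (core p H : Set G) := by
  intro g hg
  refine mem_normalizer_fintype ?_
  rintro _ ⟨a, ha, rfl⟩
  haveI : (Cfsg.pCore p H).Characteristic := Cfsg.Lib.Components.pCore_characteristic
  have := (characteristic_iff_map_eq.1 (inferInstance : (Cfsg.pCore p H).Characteristic) (H.normalizerMonoidHom ⟨g, hg⟩)).le
    (mem_map_of_mem _ ha)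
  exact ⟨_, this, rfl⟩

theorem le_core (p : ℕ) [Fact p.Prime] {H N : Subgroup G} (hN : IsPGroup p N) (hle : N ≤ H)
    (hn : H ≤ normalizer (N : Set G)) : N ≤ core p H := by
  haveI : (N.subgroupOf H).Normal := normal_subgroupOf_of_le_normalizer hn
  have h1 : N.subgroupOf H ≤ Cfsg.pCore p H := le_sSup ⟨inferInstance, hN.of_equiv (subgroupOfEquivOfLe hle).symm⟩
  intro x hx
  exact ⟨⟨x, hle hx⟩, h1 hx, rfl⟩

/-- in a soluble group an element of order `p` centralising every core lies in the `p`-core -/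
theorem mem_core_of_centralizes {p : ℕ} [hp : Fact p.Prime] {H : Subgroup G} [Group.IsSolvable H] {y : G} (hy : y ∈ H)
    (hyo : IsPGroup p (zpowers y)) (hc : ∀ t, t.Prime → ∀ c ∈ core t H, Commute y c) : y ∈ core p H := by
  have hF : (⟨y, hy⟩ : H) ∈ Cfsg.fittingSubgroup H := by
    refine Cfsg.Lib.Coprime.centralizer_fitting_le ?_
    have hle : Cfsg.fittingSubgroup H ≤ centralizer ({⟨y, hy⟩} : Set H) := by
      rw [Cfsg.Lib.Components.fitting_eq_iSup_pCore]
      refine iSup_le fun t c hct => mem_centralizer_singleton_iff.2 (Subtype.ext ?_)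
      exact (hc t.1 t.2 c ⟨c, hct, rfl⟩).eq.symm
    exact mem_centralizer_iff.2 fun c hcF => mem_centralizer_singleton_iff.1 (hle hcF)
  set F := Cfsg.fittingSubgroup H
  haveI : Group.IsNilpotent F := Cfsg.Lib.Components.isNilpotent_fitting
  obtain ⟨k, hk⟩ := IsPGroup.iff_card.1 hyo
  obtain ⟨S, hS⟩ := (isPGroup_zpowers' (p := p) (k := k) (x := (⟨⟨y, hy⟩, hF⟩ : F)) (by
    rw [Subgroup.orderOf_mk, Subgroup.orderOf_mk, ← Nat.card_zpowers, hk])).exists_le_sylow
  haveI : (S : Subgroup F).Normal := inferInstance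
  haveI : (S : Subgroup F).Characteristic := Sylow.characteristic_of_normal S inferInstance
  haveI : ((S : Subgroup F).map F.subtype).Normal := inferInstance
  exact ⟨⟨y, hy⟩, (le_sSup (a := (S : Subgroup F).map F.subtype) ⟨inferInstance, S.2.map _⟩ : _ ≤ Cfsg.pCore p H)
    ⟨_, hS (mem_zpowers _), rfl⟩, rfl⟩

end Cfsg.Lib.FourPrimes
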