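import Cfsg.Agent.SolvStruct.FourPrimes.OneLayer
import Cfsg.Agent.SolvStruct.PGroupBasics

/-!
Four pairwise joined primes: the case of a normal subgroup of prime order in the three-prime group.
-/

set_option autoImplicit false
set_option linter.style.haveILetI false
set_option linter.unusedSectionVars false

namespace Cfsg.Lib.FourPrimes

open Subgroup

variable {G : Type*} [Group G] [Finite G]

/-- second centre elements of exponent `q` -/
theorem exists_exponent_group {q : ℕ} [hq : Fact q.Prime] (hq2 : q ≠ 2) {Q : Subgroup G} (hQ : IsPGroup q Q)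
    (hu : ¬ Uniq q Q) : ∃ W ≤ Q, (∀ y ∈ W, y ^ q = 1) ∧ (∃ E ≤ W, Rk2 q E) ∧
      (∀ g ∈ normalizer (Q : Set G), g ∈ normalizer (W : Set G)) ∧
      ∀ y ∈ Q, y ^ q = 1 → (∀ u ∈ Q, Commute y u) → y ∈ W := by
  classical
  let com : G → G → G := fun u y => u * y * u⁻¹ * y⁻¹
  have hmul : ∀ {u y z : G}, y ∈ Q → u ∈ Q → (∀ v ∈ Q, Commute (com u z) v) →
      com u (y * z) = com u y * com u z := fun {u y z} hy hu hz => by
    show u * (y * z) * u⁻¹ * (y * z)⁻¹ = com u y * com u z
    calc u * (y * z) * u⁻¹ * (y * z)⁻¹ = com u y * (y * com u z) * y⁻¹ := by simp [com, mul_assoc]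
      _ = com u y * (com u z * y) * y⁻¹ := by rw [(hz y hy).eq]
      _ = com u y * com u z := by group
  have hpow : ∀ {y z : G}, y ∈ Q → z ∈ Q → (∀ v ∈ Q, Commute (com z y) v) → ∀ n : ℕ,
      z ^ n * y = com z y ^ n * y * z ^ n ∧ (y * z) ^ n = com z y ^ (n.choose 2) * (y ^ n * z ^ n) := by
    intro y z hy hz hc n
    induction n with
    | zero => simp
    | succ n ih =>
      obtain ⟨ih1, ih2⟩ := ih
      set c := com z y with hc'
      have hzy : z * y = c * y * z := by simp [hc', com, mul_assoc]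
      constructor
      · calc z ^ (n + 1) * y = z * (z ^ n * y) := by rw [pow_succ', mul_assoc]
          _ = z * c ^ n * y * z ^ n := by rw [ih1]; group
          _ = c ^ n * (z * y) * z ^ n := by rw [← ((hc z hz).pow_left n).eq]; group
          _ = c ^ (n + 1) * y * z ^ (n + 1) := by rw [hzy, pow_succ, pow_succ']; group
      · calc (y * z) ^ (n + 1) = (y * z) ^ n * (y * z) := pow_succ _ _
          _ = c ^ (n.choose 2) * y ^ n * (z ^ n * y) * z := by rw [ih2]; group
          _ = c ^ (n.choose 2) * (y ^ n * c ^ n) * y * z ^ n * z := by rw [ih1]; group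
          _ = c ^ (n.choose 2) * (c ^ n * y ^ n) * y * z ^ n * z := by
              rw [((hc (y ^ n) (pow_mem hy n)).pow_left n).eq]
          _ = c ^ ((n + 1).choose 2) * (y ^ (n + 1) * z ^ (n + 1)) := by
              rw [Nat.choose_succ_succ, Nat.choose_one_right, add_comm, pow_add, pow_succ y, pow_succ z]
              group
  let W : Subgroup G :=
    { carrier := {y | y ∈ Q ∧ y ^ q = 1 ∧ ∀ u ∈ Q, ∀ v ∈ Q, Commute (com u y) v}
      one_mem' := ⟨one_mem _, one_pow _, fun u _ v _ => by simp [com]⟩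
      mul_mem' := fun {y z} ⟨hy, hy', hyc⟩ ⟨hz, hz', hzc⟩ => by
        refine ⟨mul_mem hy hz, ?_, fun u hu v hv => ?_⟩
        · have hc := fun v hv => hyc z hz v hv
          have h1 := (hpow hy hz hc q).1
          rw [hz', one_mul, mul_one] at h1
          have hcq : com z y ^ q = 1 := right_eq_mul.1 h1 |> fun h => h
          obtain ⟨d, hd⟩ := hq.out.dvd_choose_self (k := 2) two_ne_zero (by have := hq.out.two_le; omega)
          rw [(hpow hy hz hc q).2, hd, pow_mul, hcq, hy', hz']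
          simp
        · rw [hmul hy hu (hzc u hu)]
          exact (hyc u hu v hv).mul_left (hzc u hu v hv)
      inv_mem' := fun {y} ⟨hy, hy', hyc⟩ => by
        refine ⟨inv_mem hy, by rw [inv_pow, hy', inv_one], fun u hu v hv => ?_⟩
        have h : com u y⁻¹ = (com u y)⁻¹ :=
          calc com u y⁻¹ = y⁻¹ * ((com u y)⁻¹ * y) := by simp [com, mul_assoc]
            _ = y⁻¹ * (y * (com u y)⁻¹) := by rw [((hyc u hu y hy).inv_left).eq]
            _ = (com u y)⁻¹ := by group
        rw [h]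
        exact (hyc u hu v hv).inv_left }
  have hcen : ∀ y ∈ Q, y ^ q = 1 → (∀ u ∈ Q, Commute y u) → y ∈ W := fun y hy hy' hc =>
    ⟨hy, hy', fun u hu v _ => by
      have : com u y = 1 := by show u * y * u⁻¹ * y⁻¹ = 1; rw [← (hc u hu).eq]; group
      rw [this]; exact Commute.one_left v⟩
  refine ⟨W, fun y h => h.1, fun y h => h.2.1, ?_, ?_, hcen⟩
  · obtain ⟨E, hEQ, hE⟩ := exists_rk2_of_not_uniq hQ hu
    have hnc : ¬ IsCyclic Q := fun h => hE.2 (isCyclic_of_injective (inclusion hEQ) (inclusion_injective hEQ))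
    obtain ⟨A, hAn, hAe, hAc⟩ := Cfsg.Lib.SolvStruct.exists_normal_elementary_sq hq2 hQ hnc
    have hA2 : Rk2 q A := ⟨hAe, fun hc => by
      haveI := hc
      obtain ⟨g, hg⟩ := IsCyclic.exists_ofOrder_eq_natCard (α := A)
      have h1 : orderOf g ∣ q := orderOf_dvd_of_pow_eq_one (Subtype.ext (hAe.2 g g.2))
      rw [hg, hAc] at h1
      have := Nat.le_of_dvd hq.out.pos h1
      have h4 : q * q ≤ q := by rw [← pow_two]; exact this
      have := hq.out.two_le
      nlinarith⟩
    haveI := hAn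
    haveI := hQ.isNilpotent
    -- `[Q, A]` is central
    have hkey : ∀ a ∈ A, ∀ u : Q, u * a * u⁻¹ * a⁻¹ ∈ center Q := by
      intro a ha u
      set π := QuotientGroup.mk' (center Q)
      haveI : (A.map π).Normal := hAn.map π (QuotientGroup.mk'_surjective _)
      have hz : A ⊓ center Q ≠ ⊥ := Cfsg.Lib.Coprime.inf_center_ne_bot A fun e => by
        rw [e, card_bot] at hAc
        exact absurd hAc.symm (Nat.one_lt_pow two_ne_zero hq.out.one_lt).ne'
      have hcard : Nat.card (A.map π) = (center Q).relIndex A := by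
        rw [← Subgroup.relIndex_ker, QuotientGroup.ker_mk']
      have hmul' := card_mul_index ((center Q).subgroupOf A)
      have hdvd : Nat.card (A.map π) ∣ q := by
        have h0 : Nat.card ((center Q).subgroupOf A) ≠ 1 := fun e => hz (by
          rw [Subgroup.card_eq_one, subgroupOf_eq_bot, disjoint_iff, inf_comm] at e
          exact e)
        rw [hAc] at hmul'
        obtain ⟨i, hi, he⟩ := (Nat.dvd_prime_pow hq.out).1 (hmul' ▸ dvd_mul_right _ _ :
          Nat.card ((center Q).subgroupOf A) ∣ q ^ 2)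
        rw [hcard, Subgroup.relIndex]
        interval_cases i
        · exact absurd (by simpa using he) h0
        · rw [he, pow_one, pow_two] at hmul'
          exact dvd_of_eq (Nat.eq_of_mul_eq_mul_left hq.out.pos hmul')
        · rw [he] at hmul'
          have : q ^ 2 * ((center Q).subgroupOf A).index = q ^ 2 * 1 := by rw [mul_one]; exact hmul'
          rw [Nat.eq_of_mul_eq_mul_left (pow_pos hq.out.pos 2) this]
          exact one_dvd q
      have hle : A.map π ≤ center (Q ⧸ center Q) := by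
        rcases (Nat.dvd_prime hq.out).1 hdvd with h | h
        · rw [Subgroup.card_eq_one.1 h]; exact bot_le
        · exact Cfsg.Lib.PGroups.le_center_of_card_eq_prime (hQ.to_quotient _) h
      have := mem_center_iff.1 (hle (mem_map_of_mem π ha)) (π u)
      rw [← QuotientGroup.ker_mk' (center Q), MonoidHom.mem_ker, map_mul, map_mul, map_mul, map_inv, map_inv]
      show π u * π a * (π u)⁻¹ * (π a)⁻¹ = 1
      rw [this]
      group
    refine ⟨A.map Q.subtype, ?_, hA2.map _ Q.subtype_injective⟩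
    rintro _ ⟨a, ha, rfl⟩
    refine ⟨a.2, by rw [Subgroup.coe_subtype, ← SubgroupClass.coe_pow, hAe.2 a ha]; rfl, fun u hu v hv => ?_⟩
    exact (congrArg Subtype.val (mem_center_iff.1 (hkey a ha ⟨u, hu⟩) ⟨v, hv⟩)).symm
  · intro g hg
    refine mem_normalizer_fintype fun y hy => ?_
    obtain ⟨hy0, hy1, hy2⟩ := hy
    refine ⟨(mem_normalizer_iff.1 hg y).1 hy0, by rw [conj_pow, hy1]; group, fun u hu v hv => ?_⟩
    have hu' : g⁻¹ * u * g ∈ Q := (mem_normalizer_iff''.1 hg u).1 hu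
    have hv' : g⁻¹ * v * g ∈ Q := (mem_normalizer_iff''.1 hg v).1 hv
    have := (hy2 _ hu' _ hv').map (MulAut.conj g).toMonoidHom
    simpa [com, mul_assoc] using this

/-- A normal subgroup of prime order and a pair of further primes. -/
structure WCase (r : ℕ) (R K : Subgroup G) (q p s : ℕ) (w : G) (W L : Subgroup G) : Prop where
  one : One r R K
  hq : q.Prime
  hp : p.Prime
  hs : s.Prime
  ps : p ≠ s
  pq : p ≠ q
  sq : s ≠ q
  wW : w ∈ W
  wo : orderOf w = q
  nw : K ≤ normalizer (zpowers w : Set G)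
  WK : W ≤ K
  gW : IsPGroup q W
  eW : ∀ y ∈ W, y ^ q = 1
  rW : ∃ E ≤ W, Rk2 q E
  nW : K ≤ normalizer (W : Set G)
  LK : L ≤ K
  pair : Pair p s L

variable {r q p s : ℕ} {R K W L : Subgroup G} {w : G}

theorem WCase.symm (Y : WCase r R K q p s w W L) : WCase r R K q s p w W L :=
  ⟨Y.one, Y.hq, Y.hs, Y.hp, Y.ps.symm, Y.sq, Y.pq, Y.wW, Y.wo, Y.nw, Y.WK, Y.gW, Y.eW, Y.rW, Y.nW, Y.LK, Y.pair.symm⟩

theorem WCase.exists_commute (Y : WCase r R K q p s w W L) {E : Subgroup G} (hEK : E ≤ K) (hE : Rk2 p E) :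
    ∃ a ∈ E, a ≠ 1 ∧ Commute a w := by
  haveI := Fact.mk Y.hp; haveI := Fact.mk Y.hq
  obtain ⟨a, ha, ha1, v, hv, hv1, hav⟩ := exists_fix Y.pq hE (hEK.trans Y.nw) (isPGroup_zpowers Y.wo) (fun e => by
    rw [zpowers_eq_bot] at e
    exact Y.hq.ne_one (by rw [← Y.wo, e, orderOf_one]))
  exact ⟨a, ha, ha1, commute_zpow_of_mem hav (eq_zpowers_of_mem hv Y.wo hv1).2⟩

/-- the case where the `s`-core of the centraliser of `w` in the pair group is non-trivial -/
theorem WCase.false_of_core (Y : WCase r R K q p s w W L)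
    (hS : core s (L ⊓ centralizer ({w} : Set G)) ≠ ⊥) : False := by
  haveI := Fact.mk Y.hp; haveI := Fact.mk Y.hs; haveI := Fact.mk Y.hq; haveI := Fact.mk Y.one.hr
  haveI := Y.one.nR; haveI := Y.one.cond.sol
  set L0 := L ⊓ centralizer ({w} : Set G)
  set S1 := core s L0
  have hS1 : IsPGroup s S1 := core_isPGroup s L0
  have hS1L : S1 ≤ L0 := core_le s L0
  have hS1K : S1 ≤ K := (hS1L.trans inf_le_left).trans Y.LK
  have hwK : w ∈ K := Y.WK Y.wW
  have hw1 : w ≠ 1 := fun e => Y.hq.ne_one (by rw [← Y.wo, e, orderOf_one])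
  have hcw : ∀ {a : G}, a ∈ L0 → Commute a w := fun {a} ha => mem_centralizer_singleton_iff.1 ha.2
  have htri : ∀ {a b : G}, a ∈ L0 → b ∈ L0 → orderOf a = p → orderOf b = s → ¬ Commute a b := fun {a b} ha hb hao hbo h =>
    Y.one.cond.tri Y.hp Y.hs Y.hq Y.ps Y.pq Y.sq hao hbo Y.wo h (hcw ha) (hcw hb)
  obtain ⟨Ep, hEpL, hEp⟩ := Y.pair.rkp
  obtain ⟨Es, hEsL, hEs⟩ := Y.pair.rks
  obtain ⟨a0, ha0E, ha01, ha0w⟩ := Y.exists_commute (hEpL.trans Y.LK) hEp
  have ha0 : a0 ∈ L0 := ⟨hEpL ha0E, mem_centralizer_singleton_iff.2 ha0w.eq⟩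
  have ha0o := hEp.orderOf_eq ha0E ha01
  have ha0K : a0 ∈ K := Y.LK ha0.1
  have hfpf : ∀ e ∈ zpowers a0, e ≠ 1 → ∀ u ∈ S1, Commute e u → u = 1 := by
    intro e he he1 u hu heu
    by_contra hu1
    obtain ⟨k, hk⟩ := exists_pow_orderOf hS1 hu hu1
    exact htri ha0 (pow_mem (hS1L hu) k) ha0o hk
      ((commute_zpow_of_mem heu.symm (eq_zpowers_of_mem he ha0o he1).2).symm.pow_right k)
  have hcards : ∀ {t : ℕ}, t.Prime → t ≠ s → ¬ t ∣ Nat.card S1 := fun {t} ht hts h => by
    obtain ⟨k, hk⟩ := IsPGroup.iff_card.1 hS1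
    exact hts ((Nat.prime_dvd_prime_iff_eq ht Y.hs).1 (ht.dvd_of_dvd_pow (hk ▸ h)))
  have hcopS : (Nat.card S1).Coprime (orderOf a0) := by
    obtain ⟨k, hk⟩ := IsPGroup.iff_card.1 hS1
    rw [ha0o, hk]
    exact ((Nat.coprime_primes Y.hs Y.hp).2 Y.ps.symm).pow_left k
  have ha0S : a0 ∈ normalizer (S1 : Set G) := core_le_normalizer s L0 (le_normalizer ha0)
  have hpr := Y.one.ner p Y.hp (dvd_card_of_mem ha0K ha0o)
  obtain ⟨b1, hb1, hb1o⟩ := exists_order_of_ne_bot hS1 hS
  have hsr := Y.one.ner s Y.hs (dvd_card_of_mem (hS1K hb1) hb1o)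
  -- `a0` has fixed points on `R`
  obtain ⟨v0, hv0, hv01, ha0v⟩ : ∃ v ∈ R, v ≠ 1 ∧ Commute a0 v := by
    by_contra hc
    push Not at hc
    have hall := frob (U := S1) (t := a0) Y.one.gR le_normalizer_of_normal (normalizer_eq_top R ▸ mem_top _) ha0S
      (hcards Y.one.hr hsr.symm) (by rw [ha0o]; exact fun h => hpr ((Nat.prime_dvd_prime_iff_eq Y.one.hr Y.hp).1 h).symm)
      hcopS hfpf fun v hv hav u _ => by
        rw [by_contra fun h1 => hc v hv h1 hav]; exact Commute.one_right u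
    have := Y.one.faith b1 (hS1K hb1) (hall b1 hb1)
    exact Y.hs.ne_one (by rw [← hb1o, this, orderOf_one])
  -- so `S1` centralises `W`
  have hW : ∀ u ∈ S1, ∀ y ∈ W, Commute u y := by
    refine frob (U := S1) (t := a0) Y.gW (hS1K.trans Y.nW) (Y.nW ha0K) ha0S (hcards Y.hq Y.sq.symm)
      (by rw [ha0o]; exact fun h => Y.pq ((Nat.prime_dvd_prime_iff_eq Y.hq Y.hp).1 h).symm) hcopS hfpf
      fun y hy hay u hu => ?_
    by_cases hy' : y ∈ zpowers w
    · exact commute_zpow_of_mem (hcw (hS1L hu)) hy'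
    exfalso
    have hyo : orderOf y = q := orderOf_eq_prime (Y.eW y hy) fun e => hy' (by rw [e]; exact one_mem _)
    by_cases hwy : Commute w y
    · refine hv01 (Y.one.fpf_of_cent Y.pq.symm (rk2_pair Y.wo hyo hwy hy') ((closure_le K).2 ?_) ha0K ha0o
        (fun z hz => ?_) v0 hv0 ha0v)
      · rintro z (rfl | rfl)
        exacts [hwK, Y.WK hy]
      · refine (show closure {w, y} ≤ centralizer ({a0} : Set G) from (closure_le _).2 ?_) hz
          |> mem_centralizer_singleton_iff.1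
        rintro z (rfl | rfl)
        exacts [mem_centralizer_singleton_iff.2 ha0w.eq.symm, mem_centralizer_singleton_iff.2 hay.eq.symm]
    · exact hwy (commute_of_not_dvd (t := q) (k := 1) (by rw [hyo, pow_one]) Y.wo (Y.nw (Y.WK hy))
        (not_dvd_sub_one Y.hq Y.hq le_rfl)).symm
  -- so `S1` has rank one
  have hun : Uniq s S1 := by
    by_contra hn
    obtain ⟨B, hB, hB2⟩ := exists_rk2_of_not_uniq hS1 hn
    obtain ⟨b, hb, hb1', v, hv, hv1, hbv⟩ := exists_fix (V := R) hsr hB2 le_normalizer_of_normal Y.one.gR Y.one.R0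
    obtain ⟨EW, hEW, hEW2⟩ := Y.rW
    exact hv1 (Y.one.fpf_of_cent Y.sq.symm hEW2 (hEW.trans Y.WK) (hS1K (hB hb)) (hB2.orderOf_eq hb hb1')
      (fun z hz => (hW b (hB hb) z (hEW hz)).symm) v hv hbv)
  have hLL0 : L ≤ normalizer (L0 : Set G) := Cfsg.Lib.Coprime.le_normalizer_inf le_normalizer fun g hg => by
    refine mem_normalizer_fintype fun c hc => mem_centralizer_singleton_iff.2 ?_
    have hgw : g⁻¹ * w * g ∈ zpowers w := (mem_normalizer_iff''.1 (Y.nw (Y.LK hg)) w).1 (mem_zpowers w)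
    have h := (commute_zpow_of_mem (mem_centralizer_singleton_iff.1 hc : Commute c w) hgw).map (MulAut.conj g).toMonoidHom
    simp only [MulEquiv.coe_toMonoidHom, MulAut.conj_apply] at h
    rw [show g * (g⁻¹ * w * g) * g⁻¹ = w by group] at h
    exact h.eq
  have hLS1 : L ≤ normalizer (S1 : Set G) := hLL0.trans (core_le_normalizer s L0)
  have hLb : L ≤ normalizer (zpowers b1 : Set G) := fun g hg => conj_mem_zpowers hun hb1 hb1o (hLS1 hg)
  have hb11 : b1 ≠ 1 := fun e => Y.hs.ne_one (by rw [← hb1o, e, orderOf_one])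
  have hps1 : p ∣ s - 1 := by
    by_contra h
    exact htri ha0 (hS1L hb1) ha0o hb1o
      (commute_of_not_dvd (k := 1) (by rw [ha0o, pow_one]) hb1o (hLb ha0.1) h)
  have hs2 : s ≠ 2 := fun e => by
    subst e
    have := Nat.le_of_dvd (by norm_num) hps1
    have := Y.hp.two_le
    omega
  haveI := hun.isCyclic hS1 hs2
  -- `s`-elements of `L` centralise `b1`
  obtain ⟨Ep', hEp'L, hEp'2⟩ := Y.pair.rkp
  obtain ⟨a1, ha1E, ha11, v, hv, hv1, ha1v⟩ := exists_fix Y.ps hEp (hEpL.trans hLb) (isPGroup_zpowers hb1o)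
    (fun e => hb11 (by rw [zpowers_eq_bot] at e; exact e))
  have ha1b : Commute a1 b1 := commute_zpow_of_mem ha1v (eq_zpowers_of_mem hv hb1o hv1).2
  have ha1o := hEp.orderOf_eq ha1E ha11
  have ha1L : a1 ∈ L := hEpL ha1E
  have ha1w : ¬ Commute a1 w := fun h =>
    htri ⟨ha1L, mem_centralizer_singleton_iff.2 h.eq⟩ (hS1L hb1) ha1o hb1o ha1b
  obtain ⟨S, hSL, hSp, hES, hS1S'⟩ := exists_sylow_in hEs.isPGroup hEsL
  have hsb : ∀ b ∈ S, Commute b b1 := fun b hb => by
    obtain ⟨k, hk⟩ := IsPGroup.iff_orderOf.1 hSp ⟨b, hb⟩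
    rw [Subgroup.orderOf_mk] at hk
    exact commute_of_not_dvd (t := s) (k := k) (dvd_of_eq hk) hb1o (hLb (hSL hb)) (not_dvd_sub_one Y.hs Y.hs le_rfl)
  have hS1S : S1 ≤ S := (le_core s hS1 (hS1L.trans inf_le_left) hLS1).trans hS1S'
  -- the elements centralising both `w` and `b1` form an `s`-group
  set N0 := L0 ⊓ centralizer ({b1} : Set G)
  have hN0 : IsPGroup s N0 := by
    intro x
    by_contra hx
    have hdvd : p ∣ orderOf (x : G) := by
      by_contra hp'
      apply hx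
      have hL : orderOf (x : G) ∣ Nat.card L :=
        Subgroup.orderOf_mk (x : G) x.2.1.1 ▸ _root_.orderOf_dvd_natCard (⟨(x : G), x.2.1.1⟩ : L)
      obtain ⟨i, hi⟩ : ∃ i, orderOf (x : G) = s ^ i := ⟨_, Nat.eq_prime_pow_of_unique_prime_dvd (orderOf_pos _).ne'
        fun hd hdx => ((Y.pair.primes _ hd (hdx.trans hL)).resolve_left fun e => hp' (e ▸ hdx))⟩
      exact ⟨i, Subtype.ext (by rw [SubgroupClass.coe_pow, ← hi, pow_orderOf_eq_one]; rfl)⟩
    obtain ⟨c, hc⟩ := hdvd
    refine htri (pow_mem x.2.1 c) (hS1L hb1) ?_ hb1o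
      ((show Commute (x : G) b1 from mem_centralizer_singleton_iff.1 x.2.2).pow_left c)
    rw [orderOf_pow_of_dvd (fun e => (orderOf_pos (x : G)).ne' (by rw [hc, e, mul_zero])) (hc ▸ dvd_mul_left c p), hc,
      Nat.mul_div_cancel]
    exact Nat.pos_of_ne_zero fun e => (orderOf_pos (x : G)).ne' (by rw [hc, e, mul_zero])
  have hN0n : L ≤ normalizer (N0 : Set G) := Cfsg.Lib.Coprime.le_normalizer_inf hLL0 fun g hg => by
    refine mem_normalizer_fintype fun c hc => mem_centralizer_singleton_iff.2 ?_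
    have hgw : g⁻¹ * b1 * g ∈ zpowers b1 := (mem_normalizer_iff''.1 (hLb hg) b1).1 (mem_zpowers b1)
    have h := (commute_zpow_of_mem (mem_centralizer_singleton_iff.1 hc : Commute c b1) hgw).map (MulAut.conj g).toMonoidHom
    simp only [MulEquiv.coe_toMonoidHom, MulAut.conj_apply] at h
    rw [show g * (g⁻¹ * b1 * g) * g⁻¹ = b1 by group] at h
    exact h.eq
  have hN0S : N0 ≤ S1 := le_core s hN0 inf_le_left ((inf_le_left : L0 ≤ L).trans hN0n)
  -- an element of `S` moving `w`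
  obtain ⟨b, hbE, hbw⟩ : ∃ b ∈ Es, ¬ Commute b w := by
    by_contra hc
    push Not at hc
    refine hEs.not_uniq (fun b hb => hN0S ⟨⟨hEsL hb, mem_centralizer_singleton_iff.2 (hc b hb).eq⟩, ?_⟩) hun
    exact mem_centralizer_singleton_iff.2 (hsb b (hES hb)).eq
  have hb1b : b ≠ 1 := fun e => hbw (by rw [e]; exact Commute.one_left w)
  have hbL : b ∈ L := hEsL hbE
  set c := a1 * b * a1⁻¹ * b⁻¹
  have hcL : c ∈ L := mul_mem (mul_mem (mul_mem ha1L hbL) (inv_mem ha1L)) (inv_mem hbL)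
  haveI : IsCyclic (zpowers w) := inferInstance
  have hcS1 : c ∈ S1 := hN0S ⟨⟨hcL, mem_centralizer_singleton_iff.2
      (commute_commutator_cyclic (Y.nw (Y.LK ha1L)) (Y.nw (Y.LK hbL)) (mem_zpowers w)).eq⟩,
    mem_centralizer_singleton_iff.2 (((ha1b.mul_left (hsb b (hES hbE))).mul_left ha1b.inv_left).mul_left
      (hsb b (hES hbE)).inv_left).eq⟩
  have hac : Commute a1 c := commute_cyclic_of_fix Y.ps hS1 ha1o (hLS1 ha1L) hb1 hb11 ha1b c hcS1
  have hn : ∀ n : ℕ, a1 ^ n * b * (a1 ^ n)⁻¹ = c ^ n * b := by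
    intro n
    induction n with
    | zero => simp
    | succ n ih =>
      calc a1 ^ (n + 1) * b * (a1 ^ (n + 1))⁻¹ = a1 * (a1 ^ n * b * (a1 ^ n)⁻¹) * a1⁻¹ := by rw [pow_succ']; group
        _ = a1 * c ^ n * a1⁻¹ * (a1 * b * a1⁻¹) := by rw [ih]; group
        _ = c ^ n * (c * b) := by
            rw [(hac.pow_right n).eq, show c * b = a1 * b * a1⁻¹ by simp [c]]; group
        _ = c ^ (n + 1) * b := by rw [pow_succ]; exact (mul_assoc _ _ _).symm
  have hcp : c ^ p = 1 := by
    have := hn p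
    rw [← ha1o, pow_orderOf_eq_one, inv_one, mul_one, one_mul] at this
    rw [← ha1o]
    exact right_eq_mul.1 this
  have hc1 : c = 1 := by
    obtain ⟨k, hk⟩ := IsPGroup.iff_orderOf.1 hS1 ⟨c, hcS1⟩
    rw [Subgroup.orderOf_mk] at hk
    exact orderOf_eq_one_iff.1 (Nat.eq_one_of_dvd_coprimes
      (((Nat.coprime_primes Y.hs Y.hp).2 Y.ps.symm).pow_left k) (hk ▸ dvd_rfl) (orderOf_dvd_of_pow_eq_one hcp))
  have hab : Commute a1 b := mul_inv_eq_iff_eq_mul.1 (mul_inv_eq_one.1 hc1)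
  rcases Y.one.not_both_move Y.ps Y.pq Y.sq hwK Y.wo Y.nw (Y.LK ha1L) (Y.LK hbL) ha1o (hEs.orderOf_eq hbE hb1b) hab
    with h | h
  exacts [ha1w h, hbw h]

theorem WCase.false (Y : WCase r R K q p s w W L) : False := by
  haveI := Fact.mk Y.hp; haveI := Fact.mk Y.hs
  haveI := Y.one.cond.sol
  obtain ⟨E, hEL, hE⟩ := Y.pair.rkp
  obtain ⟨a, ha, ha1, haw⟩ := Y.exists_commute (hEL.trans Y.LK) hE
  set L0 := L ⊓ centralizer ({w} : Set G)
  by_contra
  by_cases h1 : core s L0 = ⊥
  swap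
  · exact Y.false_of_core h1
  by_cases h2 : core p L0 = ⊥
  swap
  · exact Y.symm.false_of_core h2
  have hmem := mem_core_of_centralizes (p := p) (H := L0) (y := a) ⟨hEL ha, mem_centralizer_singleton_iff.2 haw.eq⟩
    (isPGroup_zpowers (hE.orderOf_eq ha ha1)) fun t ht c hc => by
      haveI := Fact.mk ht
      have h0 : core t L0 = ⊥ := by
        by_cases hd : t ∣ Nat.card L0
        · rcases Y.pair.primes t ht (hd.trans (card_dvd_of_le inf_le_left)) with e | e <;> rw [e]
          exacts [h2, h1]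
        · exact core_eq_bot_of_not_dvd hd
      rw [h0, mem_bot] at hc
      rw [hc]; exact Commute.one_right a
  rw [h2, mem_bot] at hmem
  exact ha1 hmem

end Cfsg.Lib.FourPrimes
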