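import Cfsg.Agent.SolvStruct.FourPrimes.TwoLayer

/-!
Four pairwise joined primes: the configuration of a faithful three-prime group on the Fitting subgroup.
-/

set_option autoImplicit false
set_option linter.style.haveILetI false
set_option linter.unusedSectionVars false

namespace Cfsg.Lib.FourPrimes

open Subgroup

variable {G : Type*} [Group G] [Finite G]

/-- A three-prime group acting faithfully on a normal subgroup of prime power order. -/
structure One (r : ℕ) (R K : Subgroup G) : Prop where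
  cond : Cond G
  hr : r.Prime
  nR : R.Normal
  gR : IsPGroup r R
  R0 : R ≠ ⊥
  faith : ∀ k ∈ K, (∀ v ∈ R, Commute k v) → k = 1
  ner : ∀ t : ℕ, t.Prime → t ∣ Nat.card K → t ≠ r
  three : ∀ q : ℕ, q.Prime → q ∣ Nat.card K → ∃ p s : ℕ, p.Prime ∧ s.Prime ∧ p ∣ Nat.card K ∧ s ∣ Nat.card K ∧
    p ≠ s ∧ p ≠ q ∧ s ≠ q ∧ ∀ t : ℕ, t.Prime → t ∣ Nat.card K → t = p ∨ t = q ∨ t = s
  rk : ∀ t : ℕ, t.Prime → t ∣ Nat.card K → ∃ E ≤ K, Rk2 t E
  edge : ∀ t u : ℕ, t.Prime → u.Prime → t ∣ Nat.card K → u ∣ Nat.card K → t ≠ u →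
    ∃ x ∈ K, ∃ y ∈ K, orderOf x = t ∧ orderOf y = u ∧ Commute x y
  pair : ∀ t u : ℕ, t.Prime → u.Prime → t ∣ Nat.card K → u ∣ Nat.card K → t ≠ u → ∃ L ≤ K, Pair t u L

theorem dvd_card_of_mem {t : ℕ} {H : Subgroup G} {x : G} (hx : x ∈ H) (ho : orderOf x = t) : t ∣ Nat.card H :=
  ho ▸ (Subgroup.orderOf_mk x hx ▸ _root_.orderOf_dvd_natCard (⟨x, hx⟩ : H))

theorem dvd_card_of_rk2 {t : ℕ} [Fact t.Prime] {E H : Subgroup G} (hE : Rk2 t E) (h : E ≤ H) : t ∣ Nat.card H := by
  obtain ⟨a, ha, ha1⟩ := hE.exists_not_mem 1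
  exact dvd_card_of_mem (h ha) (hE.orderOf_eq ha fun e => ha1 (by rw [e]; exact one_mem _))

variable {r : ℕ} {R K : Subgroup G}

/-- an element moving an abelian subgroup of coprime order has fixed points on the bottom layer -/
theorem One.fix_mover (O : One r R K) {u t : ℕ} [Fact u.Prime] [Fact t.Prime] (hut : u ≠ t) {A : Subgroup G}
    (hAK : A ≤ K) (hAc : ∀ a ∈ A, ∀ c ∈ A, Commute a c) (hA : IsPGroup u A) {b : G} (hbK : b ∈ K) (hb : orderOf b = t)
    (hbA : b ∈ normalizer (A : Set G)) (hmove : ∃ a ∈ A, ¬ Commute b a) : ∃ v ∈ R, v ≠ 1 ∧ Commute b v := by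
  haveI := Fact.mk O.hr; haveI := O.nR
  obtain ⟨a, ha, hna⟩ := hmove
  obtain ⟨k, hk⟩ := exists_pow_orderOf hA ha fun e => hna (by rw [e]; exact Commute.one_right b)
  exact fix_of_move hut (O.ner u Fact.out (dvd_card_of_mem (hAK (pow_mem ha k)) hk)).symm
    (O.ner t Fact.out (dvd_card_of_mem hbK hb)).symm hAc hA O.gR le_normalizer_of_normal hb hbA
    (normalizer_eq_top R ▸ mem_top b) (fun a ha h => O.faith a (hAK ha) h) ⟨a, ha, hna⟩

theorem inf_centralizer_invariant {E V : Subgroup G} {d : G} (hEV : E ≤ normalizer (V : Set G))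
    (hd : ∀ e ∈ E, Commute e d) : E ≤ normalizer ((V ⊓ centralizer ({d} : Set G) : Subgroup G) : Set G) :=
  Cfsg.Lib.Coprime.le_normalizer_inf hEV fun e he => mem_normalizer_fintype fun c hc =>
    mem_centralizer_singleton_iff.2 (by
      have h := (show Commute c d from mem_centralizer_singleton_iff.1 hc).map (MulAut.conj e).toMonoidHom
      simp only [MulEquiv.coe_toMonoidHom, MulAut.conj_apply] at h
      rw [show e * d * e⁻¹ = d by rw [(hd e he).eq]; group] at h
      exact h.eq)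

/-- what centralises a rank two subgroup is fixed-point-free on the bottom layer -/
theorem One.fpf_of_cent (O : One r R K) {u t : ℕ} [Fact u.Prime] [Fact t.Prime] (hut : u ≠ t) {E : Subgroup G}
    (hE : Rk2 u E) (hEK : E ≤ K) {d : G} (hdK : d ∈ K) (hdo : orderOf d = t) (hd : ∀ e ∈ E, Commute e d) :
    ∀ v ∈ R, Commute d v → v = 1 := by
  haveI := Fact.mk O.hr; haveI := O.nR
  intro v hv hdv
  by_contra hv1
  have hV : R ⊓ centralizer ({d} : Set G) ≠ ⊥ := fun e => hv1 (mem_bot.1 (e ▸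
    (⟨hv, mem_centralizer_singleton_iff.2 hdv.symm.eq⟩ : v ∈ R ⊓ centralizer ({d} : Set G))))
  have hur := O.ner u Fact.out (dvd_card_of_rk2 hE hEK)
  obtain ⟨a, ha, ha1, w, hw, hw1, haw⟩ := exists_fix hur hE (inf_centralizer_invariant le_normalizer_of_normal hd)
    (O.gR.to_le inf_le_left) hV
  exact O.cond.tri_fix hut hur (O.ner t Fact.out (dvd_card_of_mem hdK hdo)) O.gR (hE.orderOf_eq ha ha1) hdo (hd a ha)
    hw.1 hw1 haw (show Commute w d from mem_centralizer_singleton_iff.1 hw.2).symm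

/-- commuting elements of distinct prime orders do not both move a normal subgroup of prime order -/
theorem One.not_both_move (O : One r R K) {q p s : ℕ} [Fact q.Prime] [Fact p.Prime] [Fact s.Prime] (hps : p ≠ s)
    (hpq : p ≠ q) (hsq : s ≠ q) {w : G} (hwK : w ∈ K) (hw : orderOf w = q)
    (hn : K ≤ normalizer (zpowers w : Set G)) {a b : G} (ha : a ∈ K) (hb : b ∈ K) (hao : orderOf a = p)
    (hbo : orderOf b = s) (hab : Commute a b) : Commute a w ∨ Commute b w := by
  haveI := Fact.mk O.hr; haveI := O.nR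
  by_contra hc
  push Not at hc
  obtain ⟨hna, hnb⟩ := hc
  have hpp : p.Prime := Fact.out
  have hsp : s.Prime := Fact.out
  have hpr := O.ner p hpp (dvd_card_of_mem ha hao)
  have hsr := O.ner s hsp (dvd_card_of_mem hb hbo)
  have hqr := O.ner q Fact.out (dvd_card_of_mem hwK hw)
  have hgo : orderOf (a * b) = p * s := by
    rw [hab.orderOf_mul_eq_mul_orderOf_of_coprime (by rw [hao, hbo]; exact (Nat.coprime_primes hpp hsp).2 hps), hao, hbo]
  have hgpow : ∀ c : G, ∀ u u' : ℕ, u.Prime → orderOf c = u → ∀ i : ℤ, Commute (c ^ i) w → ¬ Commute c w →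
      (u : ℤ) ∣ i := fun c u u' hu hco i hci hnc => by
    haveI := Fact.mk hu
    by_contra hdi
    have h1 : c ^ i ≠ 1 := fun e => hdi (hco ▸ orderOf_dvd_iff_zpow_eq_one.2 e)
    exact hnc (commute_zpow_of_mem hci.symm (eq_zpowers_of_mem (zpow_mem (mem_zpowers c) i) hco h1).2).symm
  obtain ⟨v, hv, hv1, hgv⟩ : ∃ v ∈ R, v ≠ 1 ∧ Commute (a * b) v := by
    by_contra hv
    push Not at hv
    have hall := frob (U := zpowers w) (t := a * b) O.gR le_normalizer_of_normal (normalizer_eq_top R ▸ mem_top _)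
      (hn (mul_mem ha hb)) ?_ ?_ ?_ ?_ (fun v hv' hgv u _ => ?_)
    · have hw1 := O.faith w hwK (hall w (mem_zpowers w))
      rw [hw1, orderOf_one] at hw
      exact (Fact.out : q.Prime).ne_one hw.symm
    · rw [Nat.card_zpowers, hw]
      exact fun h => hqr ((Nat.prime_dvd_prime_iff_eq O.hr Fact.out).1 h).symm
    · rw [hgo]
      intro h
      rcases O.hr.dvd_mul.1 h with h | h
      exacts [hpr ((Nat.prime_dvd_prime_iff_eq O.hr hpp).1 h).symm, hsr ((Nat.prime_dvd_prime_iff_eq O.hr hsp).1 h).symm]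
    · rw [Nat.card_zpowers, hw, hgo]
      exact Nat.Coprime.mul_right ((Nat.coprime_primes Fact.out hpp).2 hpq.symm) ((Nat.coprime_primes Fact.out hsp).2 hsq.symm)
    · intro e he he1 u hu heu
      by_contra hu1
      have hew : Commute e w := commute_zpow_of_mem heu (eq_zpowers_of_mem hu hw hu1).2
      obtain ⟨i, rfl⟩ := mem_zpowers_iff.1 he
      rw [hab.mul_zpow] at hew he1
      -- the `s`-th and `p`-th powers
      have h1 : (a ^ i * b ^ i) ^ (s : ℤ) = a ^ (i * s) := by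
        rw [(hab.zpow_zpow i i).mul_zpow, ← zpow_mul, ← zpow_mul, mul_comm i (s : ℤ), zpow_mul b, zpow_natCast b, ← hbo,
          pow_orderOf_eq_one, one_zpow, mul_one]
      have h2 : (a ^ i * b ^ i) ^ (p : ℤ) = b ^ (i * p) := by
        rw [(hab.zpow_zpow i i).mul_zpow, ← zpow_mul, ← zpow_mul, mul_comm i (p : ℤ), zpow_mul a, zpow_natCast a, ← hao,
          pow_orderOf_eq_one, one_zpow, one_mul]
      have hpi := hgpow a p s hpp hao _ (h1 ▸ hew.zpow_left (s : ℤ)) hna
      have hsi := hgpow b s p hsp hbo _ (h2 ▸ hew.zpow_left (p : ℤ)) hnb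
      have hpi' : (p : ℤ) ∣ i := (Int.Prime.dvd_mul' hpp hpi).resolve_right fun h =>
        hps ((Nat.prime_dvd_prime_iff_eq hpp hsp).1 (Int.natCast_dvd_natCast.1 h))
      have hsi' : (s : ℤ) ∣ i := (Int.Prime.dvd_mul' hsp hsi).resolve_right fun h =>
        hps ((Nat.prime_dvd_prime_iff_eq hsp hpp).1 (Int.natCast_dvd_natCast.1 h)).symm
      rw [← hao] at hpi'
      rw [← hbo] at hsi'
      rw [orderOf_dvd_iff_zpow_eq_one.1 hpi', orderOf_dvd_iff_zpow_eq_one.1 hsi', one_mul] at he1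
      exact he1 rfl
    · rw [by_contra fun h1 => hv v hv' h1 hgv]
      exact Commute.one_right u
  have hga : (a * b) ^ s = a ^ s := by rw [hab.mul_pow, ← hbo, pow_orderOf_eq_one, mul_one]
  have hgb : (a * b) ^ p = b ^ p := by rw [hab.mul_pow, ← hao, pow_orderOf_eq_one, one_mul]
  have hav : Commute a v := by
    have h1 : a ^ s ≠ 1 := fun e => hps ((Nat.prime_dvd_prime_iff_eq hpp hsp).1 (hao ▸ orderOf_dvd_of_pow_eq_one e))
    exact (commute_zpow_of_mem (hga ▸ hgv.pow_left s).symm (eq_zpowers_of_mem (pow_mem (mem_zpowers a) s) hao h1).2).symm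
  have hbv : Commute b v := by
    have h1 : b ^ p ≠ 1 := fun e => hps ((Nat.prime_dvd_prime_iff_eq hsp hpp).1 (hbo ▸ orderOf_dvd_of_pow_eq_one e)).symm
    exact (commute_zpow_of_mem (hgb ▸ hgv.pow_left p).symm (eq_zpowers_of_mem (pow_mem (mem_zpowers b) p) hbo h1).2).symm
  exact O.cond.tri_fix hps hpr hsr O.gR hao hbo hab hv hv1 hav hbv

/-- a normal subgroup of prime order has a smaller prime beside it -/
theorem One.exists_lt (O : One r R K) {q : ℕ} [hq : Fact q.Prime] {w : G} (hwK : w ∈ K) (hw : orderOf w = q)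
    (hn : K ≤ normalizer (zpowers w : Set G)) : ∃ t : ℕ, t.Prime ∧ t < q := by
  obtain ⟨p, s, hp, hs, hpK, hsK, hps, hpq, hsq, -⟩ := O.three q hq.out (dvd_card_of_mem hwK hw)
  haveI := Fact.mk hp; haveI := Fact.mk hs
  by_contra hc
  push Not at hc
  obtain ⟨a, ha, b, hb, hao, hbo, hab⟩ := O.edge p s hp hs hpK hsK hps
  exact O.cond.tri hp hs hq.out hps hpq hsq hao hbo hw hab
    (commute_of_not_dvd (k := 1) (by rw [hao, pow_one]) hw (hn ha) (not_dvd_sub_one hp hq.out (hc p hp)))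
    (commute_of_not_dvd (k := 1) (by rw [hbo, pow_one]) hw (hn hb) (not_dvd_sub_one hs hq.out (hc s hs)))

/-- with cyclic cores no rank two subgroup centralises the other cores -/
theorem false_of_cyclic_cores {H : Subgroup G} [Group.IsSolvable H] {u : ℕ} [hu : Fact u.Prime]
    (hcyc : ∀ t : ℕ, t.Prime → IsCyclic (core t H)) {E : Subgroup G} (hEH : E ≤ H) (hE : Rk2 u E)
    (hcent : ∀ t : ℕ, t.Prime → t ≠ u → ∀ e ∈ E, ∀ c ∈ core t H, Commute e c) : False := by
  set C := core u H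
  haveI : IsCyclic C := hcyc u hu.out
  obtain ⟨z, hzE, hzC⟩ : ∃ z ∈ E, z ∉ C := by
    by_contra hc
    push Not at hc
    exact hE.2 (isCyclic_of_injective (inclusion hc) (inclusion_injective hc))
  have hzC' : zpowers z ≤ normalizer (C : Set G) := zpowers_le.2 (core_le_normalizer u H (le_normalizer (hEH hzE)))
  set W := C ⊔ zpowers z
  have hW : IsPGroup u W := (core_isPGroup u H).to_sup_of_normal_left'
    (isPGroup_zpowers' (k := 1) (by rw [pow_one]; exact hE.orderOf_eq hzE fun e => hzC (by rw [e]; exact one_mem _)))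
    hzC'
  have hWH : W ≤ H := sup_le (core_le u H) (zpowers_le.2 (hEH hzE))
  refine hzC ((le_core u hW hWH fun k hk => ?_) (mem_sup_right (mem_zpowers z)))
  set c := k * z * k⁻¹ * z⁻¹
  have hcH : c ∈ H := mul_mem (mul_mem (mul_mem hk (hEH hzE)) (inv_mem hk)) (inv_mem (hEH hzE))
  have hcc : ∀ t : ℕ, t.Prime → ∀ d ∈ core t H, Commute c d := fun t ht d hd => by
    haveI := hcyc t ht
    exact commute_commutator_cyclic (core_le_normalizer t H (le_normalizer hk))
      (core_le_normalizer t H (le_normalizer (hEH hzE))) hd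
  -- the Fitting subgroup normalises `W`
  have hF : (Cfsg.fittingSubgroup H).map H.subtype ≤ normalizer (W : Set G) := by
    rw [Cfsg.Lib.Components.fitting_eq_iSup_pCore, Subgroup.map_iSup]
    refine iSup_le fun t => ?_
    show core t.1 H ≤ _
    by_cases htu : t.1 = u
    · rw [htu]
      exact le_sup_left.trans le_normalizer
    haveI := Fact.mk t.2
    refine Cfsg.Lib.Coprime.le_normalizer_sup (fun d hd => core_le_normalizer u H (le_normalizer (core_le t.1 H hd)))
      fun d hd => mem_normalizer_zpowers ?_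
    rw [← (hcent t.1 t.2 htu z hzE d hd).eq]
    simp
  have hcF : c ∈ (Cfsg.fittingSubgroup H).map H.subtype := by
    refine ⟨⟨c, hcH⟩, Cfsg.Lib.Coprime.centralizer_fitting_le ?_, rfl⟩
    have hle : Cfsg.fittingSubgroup H ≤ centralizer ({⟨c, hcH⟩} : Set H) := by
      rw [Cfsg.Lib.Components.fitting_eq_iSup_pCore]
      exact iSup_le fun t d hdt => mem_centralizer_singleton_iff.2 (Subtype.ext (hcc t.1 t.2 d ⟨d, hdt, rfl⟩).eq.symm)
    exact mem_centralizer_iff.2 fun d hd => mem_centralizer_singleton_iff.1 (hle hd)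
  have hkz : k * z * k⁻¹ ∈ normalizer (W : Set G) := by
    rw [show k * z * k⁻¹ = c * z by simp [c]]
    exact mul_mem (hF hcF) (le_normalizer (mem_sup_right (mem_zpowers z)))
  have hzo : orderOf z = u := hE.orderOf_eq hzE fun e => hzC (by rw [e]; exact one_mem _)
  have hY : IsPGroup u (W ⊔ zpowers (k * z * k⁻¹) : Subgroup G) := hW.to_sup_of_normal_left'
    (isPGroup_zpowers ((orderOf_injective (MulAut.conj k).toMonoidHom (MulAut.conj k).injective z).trans hzo))
    (zpowers_le.2 hkz)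
  have hcY : c ∈ W ⊔ zpowers (k * z * k⁻¹) :=
    mul_mem (mem_sup_right (mem_zpowers _)) (inv_mem (mem_sup_left (mem_sup_right (mem_zpowers z))))
  have hcC : c ∈ C := mem_core_of_centralizes hcH (hY.to_le (zpowers_le.2 hcY)) hcc
  refine mem_normalizer_fintype fun n hn => ?_
  have hsub : W.map (MulAut.conj k).toMonoidHom ≤ W := by
    rw [Subgroup.map_sup, MonoidHom.map_zpowers]
    refine sup_le ?_ (zpowers_le.2 ?_)
    · rintro _ ⟨d, hd, rfl⟩
      exact mem_sup_left ((mem_normalizer_iff.1 (core_le_normalizer u H (le_normalizer hk)) d).1 hd)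
    · show k * z * k⁻¹ ∈ W
      rw [show k * z * k⁻¹ = c * z by simp [c]]
      exact mul_mem (mem_sup_left hcC) (mem_sup_right (mem_zpowers z))
  exact hsub (mem_map_of_mem _ hn)

/-- some core is not of rank one -/
theorem One.exists_not_uniq (O : One r R K) (hne : K ≠ ⊥) :
    ∃ q : ℕ, q.Prime ∧ q ∣ Nat.card K ∧ ¬ Uniq q (core q K) := by
  classical
  haveI := O.cond.sol
  by_contra hc
  push Not at hc
  have hun : ∀ t : ℕ, t.Prime → Uniq t (core t K) := fun t ht => by
    haveI := Fact.mk ht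
    by_cases hd : t ∣ Nat.card K
    · exact hc t ht hd
    · intro x hx y hy hxo _
      rw [core_eq_bot_of_not_dvd hd, mem_bot] at hx
      rw [hx, orderOf_one] at hxo
      exact absurd hxo.symm ht.ne_one
  have hcyc : ∀ t : ℕ, t.Prime → IsCyclic (core t K) := fun t ht => by
    haveI := Fact.mk ht
    by_cases h0 : core t K = ⊥
    · rw [h0]; infer_instance
    obtain ⟨w, hw, hwo⟩ := exists_order_of_ne_bot (core_isPGroup t K) h0
    obtain ⟨t', ht', hlt⟩ := O.exists_lt (core_le t K hw) hwo fun g hg =>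
      conj_mem_zpowers (hun t ht) hw hwo (core_le_normalizer t K (le_normalizer hg))
    exact (hun t ht).isCyclic (core_isPGroup t K) (by have := ht'.two_le; omega)
  have hex : ∃ t : ℕ, t.Prime ∧ core t K ≠ ⊥ := by
    by_contra h
    push Not at h
    obtain ⟨p, hp, hpK⟩ := Nat.exists_prime_and_dvd (n := Nat.card K) (fun e => hne (Subgroup.card_eq_one.1 e))
    haveI := Fact.mk hp
    obtain ⟨y, hy⟩ := exists_prime_orderOf_dvd_card' p hpK
    have := mem_core_of_centralizes (p := p) y.2 (isPGroup_zpowers (by rw [orderOf_coe, hy])) fun t ht c hc => by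
      rw [h t ht, mem_bot] at hc; rw [hc]; exact Commute.one_right _
    rw [h p hp, mem_bot] at this
    exact hp.ne_one (by rw [← hy, ← orderOf_coe, this, orderOf_one])
  set S := (Nat.card K).primeFactors.filter fun t => core t K ≠ ⊥
  have hmem : ∀ t, t.Prime → core t K ≠ ⊥ → t ∈ S := fun t ht h0 => by
    haveI := Fact.mk ht
    refine Finset.mem_filter.2 ⟨Nat.mem_primeFactors.2 ⟨ht, ?_, Nat.card_pos.ne'⟩, h0⟩
    by_contra hd
    exact h0 (core_eq_bot_of_not_dvd hd)
  obtain ⟨t0, ht0, h0⟩ := hex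
  obtain ⟨u, huS, humax⟩ := S.exists_max_image id ⟨t0, hmem t0 ht0 h0⟩
  obtain ⟨huf, -⟩ := Finset.mem_filter.1 huS
  obtain ⟨hu, huK, -⟩ := Nat.mem_primeFactors.1 huf
  haveI := Fact.mk hu
  obtain ⟨E, hEK, hE⟩ := O.rk u hu huK
  refine false_of_cyclic_cores hcyc hEK hE fun t ht htu e he c hc' => ?_
  haveI := Fact.mk ht
  by_cases h0 : core t K = ⊥
  · rw [h0, mem_bot] at hc'
    rw [hc']; exact Commute.one_right e
  by_cases he1 : e = 1
  · rw [he1]; exact Commute.one_left c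
  obtain ⟨x, hx, hxo⟩ := exists_order_of_ne_bot (core_isPGroup t K) h0
  have hlt : t ≤ u := humax t (hmem t ht h0)
  haveI := hcyc t ht
  have heo := hE.orderOf_eq he he1
  have hnorm := core_le_normalizer t K (le_normalizer (hEK he))
  exact commute_cyclic_of_fix htu.symm (core_isPGroup t K) heo hnorm hx
    (fun h => ht.ne_one (by rw [← hxo, h, orderOf_one]))
    (commute_of_not_dvd (k := 1) (by rw [heo, pow_one]) hxo (conj_mem_zpowers (hun t ht) hx hxo hnorm)
      (not_dvd_sub_one hu ht hlt)) c hc'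

/-- A rank two normal elementary abelian subgroup of the three-prime group. -/
structure ZCase (r : ℕ) (R K : Subgroup G) (q p s : ℕ) (Z L : Subgroup G) : Prop where
  one : One r R K
  hq : q.Prime
  hp : p.Prime
  hs : s.Prime
  ps : p ≠ s
  pq : p ≠ q
  sq : s ≠ q
  ZK : Z ≤ K
  rZ : Rk2 q Z
  nZ : K ≤ normalizer (Z : Set G)
  LK : L ≤ K
  pair : Pair p s L

variable {q p s : ℕ} {Z L : Subgroup G}

theorem ZCase.symm (Y : ZCase r R K q p s Z L) : ZCase r R K q s p Z L :=
  ⟨Y.one, Y.hq, Y.hs, Y.hp, Y.ps.symm, Y.sq, Y.pq, Y.ZK, Y.rZ, Y.nZ, Y.LK, Y.pair.symm⟩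

/-- no element of order `s` centralises a `p`-rank two subgroup -/
theorem ZCase.notCent (Y : ZCase r R K q p s Z L) {E : Subgroup G} (hEK : E ≤ K) (hE : Rk2 p E) {d : G} (hdK : d ∈ K)
    (hd : orderOf d = s) (hcent : ∀ e ∈ E, Commute e d) : False := by
  haveI := Fact.mk Y.hp; haveI := Fact.mk Y.hs; haveI := Fact.mk Y.hq; haveI := Fact.mk Y.one.hr
  by_cases hm : ∀ z ∈ Z, Commute d z
  · obtain ⟨a, ha, ha1, z, hz, hz1, haz⟩ := exists_fix Y.pq hE (hEK.trans Y.nZ) Y.rZ.isPGroup Y.rZ.ne_bot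
    exact Y.one.cond.tri Y.hp Y.hs Y.hq Y.ps Y.pq Y.sq (hE.orderOf_eq ha ha1) hd (Y.rZ.orderOf_eq hz hz1)
      (hcent a ha) haz (hm z hz)
  · push Not at hm
    obtain ⟨v, hv, hv1, hdv⟩ := Y.one.fix_mover Y.sq.symm Y.ZK (fun a ha c hc => Y.rZ.comm ha hc) Y.rZ.isPGroup hdK hd
      (Y.nZ hdK) hm
    exact hv1 (Y.one.fpf_of_cent Y.ps hE hEK hdK hd hcent v hv hdv)

/-- a rank two `p`-subgroup normalised by the `s`-rank is impossible -/
theorem ZCase.notNormalized (Y : ZCase r R K q p s Z L) {A E : Subgroup G} (hAK : A ≤ K) (hA : Rk2 p A) (hEK : E ≤ K)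
    (hE : Rk2 s E) (hEA : E ≤ normalizer (A : Set G)) : False := by
  haveI := Fact.mk Y.hp; haveI := Fact.mk Y.hs; haveI := Fact.mk Y.hq; haveI := Fact.mk Y.one.hr
  obtain ⟨b1, hb1E, hb11, x1, hx1A, hx11, hbx1⟩ := exists_fix Y.ps.symm hE hEA hA.isPGroup hA.ne_bot
  have hb1o := hE.orderOf_eq hb1E hb11
  have hx1o := hA.orderOf_eq hx1A hx11
  -- a second element of `E` with fixed points
  obtain ⟨b2, hb2E, hb2n, x2, hx2A, hx21, hbx2⟩ : ∃ b2 ∈ E, b2 ∉ zpowers b1 ∧ ∃ x2 ∈ A, x2 ≠ 1 ∧ Commute b2 x2 := by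
    by_contra hc
    push Not at hc
    refine Y.notCent hAK hA (hEK hb1E) hb1o fun e he => ?_
    haveI := hE.1.1
    rw [← Cfsg.Lib.Coprime.centralizerJoin_eq hE.2 hEA (coprime_of_isPGroup Y.ps.symm hE.isPGroup hA.isPGroup)] at he
    refine (show Cfsg.Lib.Coprime.centralizerJoin E A ≤ centralizer ({b1} : Set G) from
      iSup₂_le fun b hb x hx => mem_centralizer_singleton_iff.2 ?_) he |> mem_centralizer_singleton_iff.1
    by_cases hx1 : x = 1
    · rw [hx1]; simp
    have hbx : Commute b x := (mem_centralizer_singleton_iff.1 hx.2).symm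
    by_cases hbb : b ∈ zpowers b1
    · exact (commute_zpow_of_mem hbx.symm (eq_zpowers_of_mem hbb hb1o hb.2).2).eq
    · exact absurd hbx (hc b hb.1 hbb x hx.1 hx1)
  have hb21 : b2 ≠ 1 := fun e => hb2n (by rw [e]; exact one_mem _)
  have hb2o := hE.orderOf_eq hb2E hb21
  have hx2o := hA.orderOf_eq hx2A hx21
  -- the fixed points are cyclic and normalised by `E`
  have hu : ∀ b ∈ E, b ≠ 1 → ∀ x ∈ A, orderOf x = p → Commute b x → E ≤ normalizer (zpowers x : Set G) := by
    intro b hbE hb1 x hx hxo hbx e he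
    refine mem_normalizer_zpowers ?_
    by_contra hn
    have hex : e * x * e⁻¹ ∈ A := (mem_normalizer_iff.1 (hEA he) x).1 hx
    have hec : Commute b (e * x * e⁻¹) :=
      ((hE.comm hbE he).mul_right hbx).mul_right (hE.comm hbE he).inv_right
    have h2 := rk2_pair hxo ((orderOf_injective (MulAut.conj e).toMonoidHom (MulAut.conj e).injective x).trans hxo)
      (hA.comm hx hex) hn
    refine Y.notCent ((closure_le K).2 ?_) h2 (hEK hbE) (hE.orderOf_eq hbE hb1) fun y hy => ?_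
    · rintro y (rfl | rfl)
      exacts [hAK hx, hAK hex]
    · refine (show closure {x, e * x * e⁻¹} ≤ centralizer ({b} : Set G) from (closure_le _).2 ?_) hy
        |> mem_centralizer_singleton_iff.1
      rintro w (rfl | rfl)
      exacts [mem_centralizer_singleton_iff.2 hbx.eq.symm, mem_centralizer_singleton_iff.2 hec.eq.symm]
  have hcross : ∀ b b' x, b ∈ E → b ≠ 1 → b' ∈ E → b' ∉ zpowers b → b' ≠ 1 → x ∈ A → orderOf x = p →
      Commute b x → ¬ Commute b' x := by
    intro b b' x hbE hb1 hb'E hb'n hb'1 hx hxo hbx hb'x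
    have h2 := rk2_pair (hE.orderOf_eq hbE hb1) (hE.orderOf_eq hb'E hb'1) (hE.comm hbE hb'E) hb'n
    refine Y.symm.notCent ((closure_le K).2 ?_) h2 (hAK hx) hxo fun y hy => ?_
    · rintro y (rfl | rfl)
      exacts [hEK hbE, hEK hb'E]
    · refine (show closure {b, b'} ≤ centralizer ({x} : Set G) from (closure_le _).2 ?_) hy
        |> mem_centralizer_singleton_iff.1
      rintro w (rfl | rfl)
      exacts [mem_centralizer_singleton_iff.2 hbx.eq, mem_centralizer_singleton_iff.2 hb'x.eq]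
  have hb12 : b1 ∉ zpowers b2 := fun h => hb2n (eq_zpowers_of_mem h hb2o hb11).2
  -- the core argument
  suffices key : ∀ b b' x y, b ∈ E → b ≠ 1 → b' ∈ E → b' ≠ 1 → b' ∉ zpowers b → b ∉ zpowers b' → x ∈ A →
      orderOf x = p → y ∈ A → orderOf y = p → Commute b x → Commute b' y → (∀ z ∈ Z, Commute y z) by
    have h1 := key b1 b2 x1 x2 hb1E hb11 hb2E hb21 hb2n hb12 hx1A hx1o hx2A hx2o hbx1 hbx2
    have h2 := key b2 b1 x2 x1 hb2E hb21 hb1E hb11 hb12 hb2n hx2A hx2o hx1A hx1o hbx2 hbx1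
    have hne : x2 ∉ zpowers x1 := fun h =>
      hcross b1 b2 x2 hb1E hb11 hb2E hb2n hb21 hx2A hx2o (commute_zpow_of_mem hbx1 h) hbx2
    have hle : closure {x1, x2} ≤ K := (closure_le K).2 (by rintro w (rfl | rfl); exacts [hAK hx1A, hAK hx2A])
    have hX := rk2_pair hx1o hx2o (hA.comm hx1A hx2A) hne
    obtain ⟨a, ha, ha1, v, hv, hv1, hav⟩ := exists_fix (V := R) (Y.one.ner p Y.hp (dvd_card_of_rk2 hX hle)) hX
      (haveI := Y.one.nR; le_normalizer_of_normal) Y.one.gR Y.one.R0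
    refine hv1 (Y.one.fpf_of_cent Y.pq.symm Y.rZ Y.ZK (hle ha) (hX.orderOf_eq ha ha1) (fun z hz => ?_) v hv hav)
    refine ((show closure {x1, x2} ≤ centralizer ({z} : Set G) from (closure_le _).2 ?_) ha
      |> mem_centralizer_singleton_iff.1).symm
    rintro w (rfl | rfl)
    exacts [mem_centralizer_singleton_iff.2 (h2 z hz).eq, mem_centralizer_singleton_iff.2 (h1 z hz).eq]
  intro b b' x y hbE hb1 hb'E hb'1 hb'n hbn hx hxo hy hyo hbx hb'y
  by_contra hy'
  push Not at hy'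
  have hbo := hE.orderOf_eq hbE hb1
  have hny : ¬ Commute b y := hcross b' b y hb'E hb'1 hbE hbn hb1 hy hyo hb'y
  have hnx : ¬ Commute b' x := hcross b b' x hbE hb1 hb'E hb'n hb'1 hx hxo hbx
  have hby : b ∈ normalizer (zpowers y : Set G) := hu b' hb'E hb'1 y hy hyo hb'y hbE
  have hyK : zpowers y ≤ K := zpowers_le.2 (hAK hy)
  -- `b` fixes a point of `Z`
  obtain ⟨z, hz, hz1, hbz⟩ : ∃ z ∈ Z, z ≠ 1 ∧ Commute b z := by
    refine fix_of_move Y.ps Y.pq.symm Y.sq.symm (zpowers_comm y) (isPGroup_zpowers hyo) Y.rZ.isPGroup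
      (hyK.trans Y.nZ) hbo hby (Y.nZ (hEK hbE)) (fun a ha h => ?_) ⟨y, mem_zpowers y, hny⟩
    by_contra ha1
    obtain ⟨z, hz, hn⟩ := hy'
    exact hn (commute_zpow_of_mem (h z hz).symm (eq_zpowers_of_mem ha hyo ha1).2).symm
  -- `b` moves `Z`
  obtain ⟨v, hv, hv1, hbv⟩ : ∃ v ∈ R, v ≠ 1 ∧ Commute b v := by
    by_cases hm : ∀ z ∈ Z, Commute b z
    · exfalso
      obtain ⟨z0, hz0, hn⟩ := hy'
      apply hn
      have hc : b * y * b⁻¹ * y⁻¹ ∈ zpowers y :=
        mul_mem ((mem_normalizer_iff.1 hby y).1 (mem_zpowers y)) (inv_mem (mem_zpowers y))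
      have hc1 : b * y * b⁻¹ * y⁻¹ ≠ 1 := fun e => hny (mul_inv_eq_iff_eq_mul.1 (mul_inv_eq_one.1 e))
      have hyz : ∀ u ∈ Z, Commute (b * y * b⁻¹ * y⁻¹) u := fun u hu => by
        have h1 : y⁻¹ * u * y ∈ Z := (mem_normalizer_iff''.1 (Y.nZ (hAK hy)) u).1 hu
        have e1 : b * (y⁻¹ * u * y) * b⁻¹ = y⁻¹ * u * y := by rw [(hm _ h1).eq]; group
        have e2 : b⁻¹ * (y⁻¹ * u * y) * b = y⁻¹ * u * y := by
          rw [mul_assoc, ← (hm _ h1).eq]; group
        show (b * y * b⁻¹ * y⁻¹) * u = u * (b * y * b⁻¹ * y⁻¹)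
        have h2 : b * u * b⁻¹ = u := by rw [(hm u hu).eq]; group
        calc (b * y * b⁻¹ * y⁻¹) * u = b * y * (b⁻¹ * (y⁻¹ * u * y) * b) * (b⁻¹ * y⁻¹) := by group
          _ = b * y * (y⁻¹ * u * y) * (b⁻¹ * y⁻¹) := by rw [e2]
          _ = (b * u * b⁻¹) * (b * y * b⁻¹ * y⁻¹) := by group
          _ = u * (b * y * b⁻¹ * y⁻¹) := by rw [h2]
      exact (commute_zpow_of_mem (hyz z0 hz0).symm (eq_zpowers_of_mem hc hyo hc1).2).symm
    · push Not at hm
      exact Y.one.fix_mover Y.sq.symm Y.ZK (fun a ha c hc => Y.rZ.comm ha hc) Y.rZ.isPGroup (hEK hbE) hbo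
        (Y.nZ (hEK hbE)) hm
  -- the fixed line
  have hzo := Y.rZ.orderOf_eq hz hz1
  have hnline : ∀ g : G, g ∈ K → Commute g b → g ∈ normalizer (zpowers z : Set G) := fun g hg hgb => by
    refine mem_normalizer_zpowers ?_
    by_contra hn
    have hgz : g * z * g⁻¹ ∈ Z := (mem_normalizer_iff.1 (Y.nZ hg) z).1 hz
    have hbg : Commute b (g * z * g⁻¹) := (hgb.symm.mul_right hbz).mul_right hgb.symm.inv_right
    have h2 := rk2_pair hzo ((orderOf_injective (MulAut.conj g).toMonoidHom (MulAut.conj g).injective z).trans hzo)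
      (Y.rZ.comm hz hgz) hn
    refine hv1 (Y.one.fpf_of_cent Y.sq.symm h2 ((closure_le K).2 ?_) (hEK hbE) hbo (fun u hu => ?_) v hv hbv)
    · rintro u (rfl | rfl)
      exacts [Y.ZK hz, Y.ZK hgz]
    · refine (show closure {z, g * z * g⁻¹} ≤ centralizer ({b} : Set G) from (closure_le _).2 ?_) hu
        |> mem_centralizer_singleton_iff.1
      rintro w (rfl | rfl)
      exacts [mem_centralizer_singleton_iff.2 hbz.eq.symm, mem_centralizer_singleton_iff.2 hbg.eq.symm]
  have hnb' := hnline b' (hEK hb'E) (hE.comm hb'E hbE)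
  have hnx' := hnline x (hAK hx) hbx.symm
  haveI : IsCyclic (zpowers z) := inferInstance
  have hcz := commute_commutator_cyclic hnb' hnx' (mem_zpowers z)
  have hc : b' * x * b'⁻¹ * x⁻¹ ∈ zpowers x :=
    mul_mem ((mem_normalizer_iff.1 (hu b hbE hb1 x hx hxo hbx hb'E) x).1 (mem_zpowers x)) (inv_mem (mem_zpowers x))
  have hc1 : b' * x * b'⁻¹ * x⁻¹ ≠ 1 := fun e => hnx (mul_inv_eq_iff_eq_mul.1 (mul_inv_eq_one.1 e))
  exact Y.one.cond.tri Y.hs Y.hp Y.hq Y.ps.symm Y.sq Y.pq hbo hxo hzo hbx hbz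
    (commute_zpow_of_mem hcz.symm (eq_zpowers_of_mem hc hxo hc1).2).symm

theorem ZCase.uniq_core (Y : ZCase r R K q p s Z L) : Uniq p (core p L) := by
  haveI := Fact.mk Y.hp; haveI := Fact.mk Y.hs
  by_contra hu
  obtain ⟨E, hEL, hE⟩ := Y.pair.rks
  set P := core p L
  have hPK : P ≤ K := (core_le p L).trans Y.LK
  have hEK := hEL.trans Y.LK
  have hEP : E ≤ normalizer (P : Set G) := fun e he => core_le_normalizer p L (le_normalizer (hEL he))
  by_cases hZu : Uniq p (omZ p P)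
  swap
  · obtain ⟨A, hAle, hA⟩ := exists_rk2_of_not_uniq (omZ_isPGroup p P) hZu
    refine Y.notNormalized ((omZ_le p P).trans hPK) (A := omZ p P) ⟨⟨⟨⟨fun a b => Subtype.ext
      (omZ_comm p P a a.2 b b.2)⟩⟩, fun a ha => ha.2.1⟩, fun hc => hA.2 ?_⟩ hEK hE
      fun e he => omZ_normalizer p P (hEP he)
    exact isCyclic_of_injective (inclusion hAle) (inclusion_injective hAle)
  obtain ⟨x, hx, hxo, hxc⟩ := exists_center_order (core_isPGroup p L) fun e => hu (fun a ha b hb hao _ => by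
    rw [show P = ⊥ from e, mem_bot] at ha
    rw [ha, orderOf_one] at hao
    exact absurd hao.symm Y.hp.ne_one)
  have hx1 : x ≠ 1 := fun e => Y.hp.ne_one (by rw [← hxo, e, orderOf_one])
  have hxA : x ∈ omZ p P := ⟨hx, by rw [← hxo, pow_orderOf_eq_one], hxc⟩
  -- fixed points of single elements are cyclic
  have hone : ∀ b ∈ E, b ≠ 1 → Uniq p (P ⊓ centralizer ({b} : Set G)) := fun b hb hb1 => by
    by_contra hn
    obtain ⟨A, hAle, hA⟩ := exists_rk2_of_not_uniq ((core_isPGroup p L).to_le inf_le_left) hn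
    exact Y.notCent (fun a ha => hPK (hAle ha).1) hA (hEK hb) (hE.orderOf_eq hb hb1)
      fun a ha => mem_centralizer_singleton_iff.1 (hAle ha).2
  have hxE : ∀ e ∈ E, e ∈ normalizer (zpowers x : Set G) := fun e he => mem_normalizer_zpowers (hZu x hxA _
    ((mem_normalizer_iff.1 (omZ_normalizer p P (hEP he)) x).1 hxA) hxo
    ((orderOf_injective (MulAut.conj e).toMonoidHom (MulAut.conj e).injective x).trans hxo))
  by_cases hcase : ∃ b ∈ E, b ≠ 1 ∧ ∃ u ∈ P, orderOf u = p ∧ Commute b u ∧ u ∉ zpowers x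
  · obtain ⟨b, hb, hb1, u, hu', huo, hbu, hux⟩ := hcase
    refine Y.notNormalized ((closure_le K).2 (by rintro w (rfl | rfl); exacts [hPK hx, hPK hu']))
      (rk2_pair hxo huo (hxc u hu') hux) hEK hE fun e he => ?_
    have hnu : e ∈ normalizer (zpowers u : Set G) := mem_normalizer_zpowers (hone b hb hb1 u
      ⟨hu', mem_centralizer_singleton_iff.2 hbu.symm.eq⟩ _
      ⟨(mem_normalizer_iff.1 (hEP he) u).1 hu', mem_centralizer_singleton_iff.2
        (((hE.comm hb he).mul_right hbu).mul_right (hE.comm hb he).inv_right).symm.eq⟩ huo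
      ((orderOf_injective (MulAut.conj e).toMonoidHom (MulAut.conj e).injective u).trans huo))
    have heq : closure ({x, u} : Set G) = zpowers x ⊔ zpowers u := by
      rw [show ({x, u} : Set G) = {x} ∪ {u} from rfl, Subgroup.closure_union, zpowers_eq_closure, zpowers_eq_closure]
    rw [heq]
    exact Cfsg.Lib.Coprime.le_normalizer_sup (zpowers_le.2 (hxE e he)) (zpowers_le.2 hnu) (mem_zpowers e)
  push Not at hcase
  -- hence every fixed-point-having element centralises `x`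
  have hcx : ∀ b ∈ E, b ≠ 1 → ∀ u ∈ P, u ≠ 1 → Commute b u → Commute b x := fun b hb hb1 u hu' hu1 hbu => by
    obtain ⟨k, hk⟩ := exists_pow_orderOf (core_isPGroup p L) hu' hu1
    have hmem := hcase b hb hb1 _ (pow_mem hu' k) hk (hbu.pow_right k)
    exact commute_zpow_of_mem (hbu.pow_right k) (eq_zpowers_of_mem hmem hxo fun e => Y.hp.ne_one
      (by rw [← hk, e, orderOf_one])).2
  obtain ⟨b0, hb0, hb01, u0, hu0, hu01, hbu0⟩ := exists_fix Y.ps.symm hE hEP (core_isPGroup p L)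
    fun e => hx1 (mem_bot.1 (e ▸ hx))
  have hb0x := hcx b0 hb0 hb01 u0 hu0 hu01 hbu0
  have hb0o := hE.orderOf_eq hb0 hb01
  obtain ⟨A, hAP, hA⟩ := exists_rk2_of_not_uniq (core_isPGroup p L) hu
  refine Y.notCent (hAP.trans hPK) hA (hEK hb0) hb0o fun a ha => ?_
  haveI := hE.1.1
  have hjoin := Cfsg.Lib.Coprime.centralizerJoin_eq hE.2 hEP
    (coprime_of_isPGroup Y.ps.symm hE.isPGroup (core_isPGroup p L))
  refine (show Cfsg.Lib.Coprime.centralizerJoin E P ≤ centralizer ({b0} : Set G) from iSup₂_le fun b hb y hy =>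
    mem_centralizer_singleton_iff.2 ?_) (hjoin.symm ▸ hAP ha) |> mem_centralizer_singleton_iff.1
  by_cases hy1 : y = 1
  · rw [hy1]; simp
  have hby : Commute b y := (mem_centralizer_singleton_iff.1 hy.2).symm
  by_cases hbb : b ∈ zpowers b0
  · exact (commute_zpow_of_mem hby.symm (eq_zpowers_of_mem hbb hb0o hb.2).2).eq
  exfalso
  have h2 := rk2_pair hb0o (hE.orderOf_eq hb.1 hb.2) (hE.comm hb0 hb.1) hbb
  refine Y.symm.notCent ((closure_le K).2 (by rintro w (rfl | rfl); exacts [hEK hb0, hEK hb.1])) h2 (hPK hx) hxo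
    fun c hc => ?_
  refine (show closure {b0, b} ≤ centralizer ({x} : Set G) from (closure_le _).2 ?_) hc
    |> mem_centralizer_singleton_iff.1
  rintro w (rfl | rfl)
  exacts [mem_centralizer_singleton_iff.2 hb0x.eq, mem_centralizer_singleton_iff.2 (hcx _ hb.1 hb.2 y hy.1 hy1 hby).eq]

theorem ZCase.false_of_lt (Y : ZCase r R K q p s Z L) (hsp : s < p) : False := by
  haveI := Fact.mk Y.hp; haveI := Fact.mk Y.hs
  haveI := Y.one.cond.sol
  obtain ⟨E, hEL, hE⟩ := Y.pair.rkp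
  have hup := Y.uniq_core
  have hus := Y.symm.uniq_core
  have h0 : core s L = ⊥ := by
    by_contra h0
    obtain ⟨d, hd, hdo⟩ := exists_order_of_ne_bot (core_isPGroup s L) h0
    refine Y.notCent (hEL.trans Y.LK) hE (Y.LK (core_le s L hd)) hdo fun e he => ?_
    refine commute_of_not_dvd (t := p) (k := 1) (by rw [pow_one]; exact orderOf_dvd_of_pow_eq_one (hE.pow_eq he)) hdo
      (conj_mem_zpowers hus hd hdo (core_le_normalizer s L (le_normalizer (hEL he)))) (not_dvd_sub_one Y.hp Y.hs hsp.le)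
  have hz : ∀ t : ℕ, t.Prime → t ≠ p → core t L = ⊥ := fun t ht htp => by
    haveI := Fact.mk ht
    by_cases hd : t ∣ Nat.card L
    · rw [(Y.pair.primes t ht hd).resolve_left htp, h0]
    · exact core_eq_bot_of_not_dvd hd
  refine false_of_cyclic_cores (fun t ht => ?_) hEL hE fun t ht htp e _ c hc => ?_
  · by_cases htp : t = p
    · rw [htp]
      exact hup.isCyclic (core_isPGroup p L) (by have := Y.hs.two_le; omega)
    · rw [hz t ht htp]; infer_instance
  · rw [hz t ht htp, mem_bot] at hc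
    rw [hc]; exact Commute.one_right e

theorem ZCase.false (Y : ZCase r R K q p s Z L) : False := by
  rcases lt_or_gt_of_ne Y.ps with h | h
  exacts [Y.symm.false_of_lt h, Y.false_of_lt h]

end Cfsg.Lib.FourPrimes
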