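import Cfsg.Agent.SolvStruct.FourPrimes.Tools

/-!
Four pairwise joined primes: two primes in the Fitting subgroup are impossible.
-/

set_option autoImplicit false
set_option linter.style.haveILetI false
set_option linter.unusedSectionVars false

namespace Cfsg.Lib.FourPrimes

open Subgroup

variable {G : Type*} [Group G] [Finite G]

/-- The hypothesis: pairwise joined primes of which no three are joined, and every prime has rank two. -/
structure Cond (G : Type*) [Group G] : Prop where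
  sol : Group.IsSolvable G
  tri : ∀ {p q r : ℕ}, p.Prime → q.Prime → r.Prime → p ≠ q → p ≠ r → q ≠ r → ∀ {x y z : G}, orderOf x = p →
    orderOf y = q → orderOf z = r → Commute x y → Commute x z → Commute y z → False
  rk : ∀ p : ℕ, p.Prime → p ∣ Nat.card G → ∃ E : Subgroup G, Rk2 p E
  edge : ∀ p q : ℕ, p.Prime → q.Prime → p ∣ Nat.card G → q ∣ Nat.card G → p ≠ q →
    ∃ x y : G, orderOf x = p ∧ orderOf y = q ∧ Commute x y

theorem Cond.tri_fix (h : Cond G) {p q r : ℕ} [hp : Fact p.Prime] [hq : Fact q.Prime] [hr : Fact r.Prime] (hpq : p ≠ q)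
    (hpr : p ≠ r) (hqr : q ≠ r) {R : Subgroup G} (hR : IsPGroup r R) {x y v : G} (hx : orderOf x = p) (hy : orderOf y = q)
    (hxy : Commute x y) (hv : v ∈ R) (hv1 : v ≠ 1) (hxv : Commute x v) (hyv : Commute y v) : False := by
  obtain ⟨k, hk⟩ := exists_pow_orderOf hR hv hv1
  exact h.tri hp.out hq.out hr.out hpq hpr hqr hx hy hk hxy (hxv.pow_right k) (hyv.pow_right k)

/-- A subgroup whose order involves only the primes `p` and `s`, both of rank two. -/
structure Pair (p s : ℕ) (L : Subgroup G) : Prop where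
  primes : ∀ t : ℕ, t.Prime → t ∣ Nat.card L → t = p ∨ t = s
  rkp : ∃ E ≤ L, Rk2 p E
  rks : ∃ E ≤ L, Rk2 s E

theorem Pair.symm {p s : ℕ} {L : Subgroup G} (h : Pair p s L) : Pair s p L :=
  ⟨fun t ht hd => (h.primes t ht hd).symm, h.rks, h.rkp⟩

theorem core_eq_bot_of_not_dvd {t : ℕ} [ht : Fact t.Prime] {H : Subgroup G} (h : ¬ t ∣ Nat.card H) : core t H = ⊥ := by
  by_contra hne
  obtain ⟨x, hx, hxo⟩ := exists_order_of_ne_bot (core_isPGroup t H) hne
  exact h (hxo ▸ (Subgroup.orderOf_mk x (core_le t H hx) ▸ _root_.orderOf_dvd_natCard (⟨x, core_le t H hx⟩ : H)))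

theorem exists_sylow_in {p : ℕ} [Fact p.Prime] {H Q : Subgroup G} (hQ : IsPGroup p Q) (hle : Q ≤ H) :
    ∃ S ≤ H, IsPGroup p S ∧ Q ≤ S ∧ core p H ≤ S := by
  obtain ⟨S, hS⟩ := (hQ.of_equiv (subgroupOfEquivOfLe hle).symm).exists_le_sylow
  exact ⟨(S : Subgroup H).map H.subtype, map_subtype_le _, S.2.map _, fun x hx => ⟨⟨x, hle hx⟩, hS hx, rfl⟩,
    map_mono (Cfsg.Lib.Coprime.pCore_le_sylow p S)⟩

/-- the central elements of exponent `p` -/
def omZ (p : ℕ) (P : Subgroup G) : Subgroup G where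
  carrier := {y | y ∈ P ∧ y ^ p = 1 ∧ ∀ u ∈ P, Commute y u}
  one_mem' := ⟨one_mem _, one_pow _, fun u _ => Commute.one_left u⟩
  mul_mem' := fun {a b} ⟨ha, ha', hac⟩ ⟨hb, hb', hbc⟩ =>
    ⟨mul_mem ha hb, by rw [(hac b hb).mul_pow, ha', hb', one_mul], fun u hu => (hac u hu).mul_left (hbc u hu)⟩
  inv_mem' := fun {a} ⟨ha, ha', hac⟩ => ⟨inv_mem ha, by rw [inv_pow, ha', inv_one], fun u hu => (hac u hu).inv_left⟩

theorem mem_omZ {p : ℕ} {P : Subgroup G} {y : G} : y ∈ omZ p P ↔ y ∈ P ∧ y ^ p = 1 ∧ ∀ u ∈ P, Commute y u := Iff.rfl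

theorem omZ_le (p : ℕ) (P : Subgroup G) : omZ p P ≤ P := fun _ h => h.1

theorem omZ_comm (p : ℕ) (P : Subgroup G) : ∀ a ∈ omZ p P, ∀ b ∈ omZ p P, Commute a b := fun _ ha _ hb => ha.2.2 _ hb.1

theorem omZ_isPGroup (p : ℕ) [Fact p.Prime] (P : Subgroup G) : IsPGroup p (omZ p P) := fun a =>
  ⟨1, Subtype.ext (by rw [pow_one]; exact a.2.2.1)⟩

theorem omZ_normalizer (p : ℕ) (P : Subgroup G) {g : G} (hg : g ∈ normalizer (P : Set G)) :
    g ∈ normalizer (omZ p P : Set G) := mem_normalizer_fintype fun y hy => by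
  obtain ⟨h1, h2, h3⟩ := hy
  refine ⟨(mem_normalizer_iff.1 hg y).1 h1, by rw [conj_pow, h2]; group, fun u hu => ?_⟩
  have hu' : g⁻¹ * u * g ∈ P := (mem_normalizer_iff''.1 hg u).1 hu
  have := (h3 _ hu').map (MulAut.conj g).toMonoidHom
  simpa [mul_assoc] using this

/-- Two normal subgroups of coprime orders, each the other's centraliser, and a pair of further primes. -/
structure Two (p s r q : ℕ) (R W L : Subgroup G) : Prop where
  cond : Cond G
  hp : p.Prime
  hs : s.Prime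
  hr : r.Prime
  hq : q.Prime
  ps : p ≠ s
  pr : p ≠ r
  pq : p ≠ q
  sr : s ≠ r
  sq : s ≠ q
  rq : r ≠ q
  nR : R.Normal
  nW : W.Normal
  gR : IsPGroup r R
  gW : IsPGroup q W
  R0 : R ≠ ⊥
  W0 : W ≠ ⊥
  comm : ∀ v ∈ R, ∀ w ∈ W, Commute v w
  pair : Pair p s L

variable {p s r q : ℕ} {R W L : Subgroup G}

theorem Two.symmR (T : Two p s r q R W L) : Two p s q r W R L :=
  ⟨T.cond, T.hp, T.hs, T.hq, T.hr, T.ps, T.pq, T.pr, T.sq, T.sr, T.rq.symm, T.nW, T.nR, T.gW, T.gR, T.W0, T.R0,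
    fun v hv w hw => (T.comm w hw v hv).symm, T.pair⟩

theorem Two.symmP (T : Two p s r q R W L) : Two s p r q R W L :=
  ⟨T.cond, T.hs, T.hp, T.hr, T.hq, T.ps.symm, T.sr, T.sq, T.pr, T.pq, T.rq, T.nR, T.nW, T.gR, T.gW, T.R0, T.W0,
    T.comm, T.pair.symm⟩

/-- no element of order `p` fixes points in both layers -/
theorem Two.nofix (T : Two p s r q R W L) {x : G} (hx : orderOf x = p) {v w : G} (hv : v ∈ R) (hv1 : v ≠ 1)
    (hw : w ∈ W) (hw1 : w ≠ 1) (hxv : Commute x v) (hxw : Commute x w) : False := by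
  haveI := Fact.mk T.hp; haveI := Fact.mk T.hr; haveI := Fact.mk T.hq
  obtain ⟨k, hk⟩ := exists_pow_orderOf T.gR hv hv1
  obtain ⟨l, hl⟩ := exists_pow_orderOf T.gW hw hw1
  exact T.cond.tri T.hp T.hr T.hq T.pr T.pq T.rq hx hk hl (hxv.pow_right k) (hxw.pow_right l)
    ((T.comm v hv w hw).pow_pow k l)

/-- abelian `p`-subgroups normalised by the `s`-rank act faithfully on the first layer -/
theorem Two.faith (T : Two p s r q R W L) {E A : Subgroup G} (hE : Rk2 s E) (hA : IsPGroup p A)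
    (hAc : ∀ a ∈ A, ∀ c ∈ A, Commute a c) (hEA : E ≤ normalizer (A : Set G)) :
    ∀ a ∈ A, (∀ v ∈ R, Commute a v) → a = 1 := by
  haveI := Fact.mk T.hp; haveI := Fact.mk T.hs; haveI := Fact.mk T.hr; haveI := Fact.mk T.hq
  haveI := T.nR; haveI := T.nW
  intro a ha hav
  by_contra ha1
  obtain ⟨k, hk⟩ := exists_pow_orderOf hA ha ha1
  obtain ⟨b, hbE, hb1, v, hv, hv1, hbv⟩ := exists_fix (V := R) T.sr hE le_normalizer_of_normal T.gR T.R0
  have hbo := hE.orderOf_eq hbE hb1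
  set A0 := A ⊓ centralizer (R : Set G)
  have hmove : ∃ c ∈ A0, ¬ Commute b c := ⟨a ^ k, ⟨pow_mem ha k, mem_centralizer_iff.2 fun u hu =>
    ((hav u hu).pow_left k).eq.symm⟩, fun hc => T.cond.tri_fix T.ps.symm T.sr T.pr T.gR hbo hk hc hv hv1 hbv
    ((hav v hv).pow_left k)⟩
  haveI : (centralizer (R : Set G)).Normal := inferInstance
  obtain ⟨w, hw, hw1, hbw⟩ := fix_of_move T.ps T.pq.symm T.sq.symm (A := A0) (V := W) (b := b)
    (fun x hx y hy => hAc x hx.1 y hy.1) (hA.to_le inf_le_left) T.gW le_normalizer_of_normal hbo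
    (Cfsg.Lib.Coprime.le_normalizer_inf hEA (le_normalizer_of_normal) hbE)
    (normalizer_eq_top (W) ▸ mem_top b)
    (fun x hx hxW => by
      by_contra hx1
      obtain ⟨m, hm⟩ := exists_pow_orderOf hA hx.1 hx1
      obtain ⟨⟨v', hv'⟩, hv'1⟩ := ne_bot_iff_exists_ne_one.1 T.R0
      obtain ⟨⟨w', hw'⟩, hw'1⟩ := ne_bot_iff_exists_ne_one.1 T.W0
      exact T.nofix hm hv' (fun e => hv'1 (Subtype.ext e)) hw' (fun e => hw'1 (Subtype.ext e))
        (Commute.pow_left (Commute.symm (mem_centralizer_iff.1 hx.2 v' hv')) m) ((hxW w' hw').pow_left m))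
    hmove
  exact T.symmP.nofix hbo hv hv1 hw hw1 hbv hbw

/-- abelian `p`-subgroups normalised by the `s`-rank are centralised by it and fixed-point-free -/
theorem Two.central (T : Two p s r q R W L) {E A : Subgroup G} (hE : Rk2 s E) (hA : IsPGroup p A)
    (hAc : ∀ a ∈ A, ∀ c ∈ A, Commute a c) (hEA : E ≤ normalizer (A : Set G)) :
    (∀ b, orderOf b = s → b ∈ normalizer (A : Set G) → ∀ a ∈ A, Commute b a) ∧
      ∀ a ∈ A, orderOf a = p → (∀ v ∈ R, Commute a v → v = 1) ∧ ∀ w ∈ W, Commute a w → w = 1 := by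
  haveI := Fact.mk T.hp; haveI := Fact.mk T.hs; haveI := Fact.mk T.hr; haveI := Fact.mk T.hq
  haveI := T.nR; haveI := T.nW
  have hcen : ∀ b, orderOf b = s → b ∈ normalizer (A : Set G) → ∀ a ∈ A, Commute b a := fun b hbo hbA a ha => by
    by_contra hn
    obtain ⟨v, hv, hv1, hbv⟩ := fix_of_move T.ps T.pr.symm T.sr.symm hAc hA T.gR le_normalizer_of_normal hbo hbA
      (normalizer_eq_top R ▸ mem_top b) (T.faith hE hA hAc hEA) ⟨a, ha, hn⟩
    obtain ⟨w, hw, hw1, hbw⟩ := fix_of_move T.ps T.pq.symm T.sq.symm hAc hA T.gW le_normalizer_of_normal hbo hbA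
      (normalizer_eq_top W ▸ mem_top b) (T.symmR.faith hE hA hAc hEA) ⟨a, ha, hn⟩
    exact T.symmP.nofix hbo hv hv1 hw hw1 hbv hbw
  refine ⟨hcen, ?_⟩
  suffices key : ∀ {r' : ℕ} (R' : Subgroup G), r'.Prime → p ≠ r' → s ≠ r' → IsPGroup r' R' → R'.Normal → ∀ a ∈ A,
      orderOf a = p → ∀ v ∈ R', Commute a v → v = 1 from
    fun a ha hao => ⟨key R T.hr T.pr T.sr T.gR T.nR a ha hao, key W T.hq T.pq T.sq T.gW T.nW a ha hao⟩
  intro r' R' hr' hpr hsr hR' hR'n a ha hao v hv hav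
  haveI := Fact.mk hr'; haveI := hR'n
  by_contra hv1
  set V := R' ⊓ centralizer ({a} : Set G)
  have hVE : E ≤ normalizer (V : Set G) := Cfsg.Lib.Coprime.le_normalizer_inf le_normalizer_of_normal fun e he => by
    by_cases he1 : e = 1
    · rw [he1]; exact one_mem _
    have hea : Commute e a := hcen e (hE.orderOf_eq he he1) (hEA he) a ha
    refine mem_normalizer_fintype fun c hc => mem_centralizer_singleton_iff.2 ?_
    have h := (show Commute c a from mem_centralizer_singleton_iff.1 hc).map (MulAut.conj e).toMonoidHom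
    simp only [MulEquiv.coe_toMonoidHom, MulAut.conj_apply] at h
    rw [show e * a * e⁻¹ = a by rw [hea.eq]; group] at h
    exact h.eq
  have hV : V ≠ ⊥ := fun e => hv1 (mem_bot.1 (e ▸ (⟨hv, mem_centralizer_singleton_iff.2 hav.symm.eq⟩ : v ∈ V)))
  obtain ⟨b, hbE, hb1, u, hu, hu1, hbu⟩ := exists_fix hsr hE hVE (hR'.to_le inf_le_left) hV
  exact T.cond.tri_fix T.ps.symm hsr hpr hR' (hE.orderOf_eq hbE hb1) hao
    (hcen b (hE.orderOf_eq hbE hb1) (hEA hbE) a ha) hu.1 hu1 hbu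
    (show Commute u a from mem_centralizer_singleton_iff.1 hu.2).symm

/-- a central fixed-point-free element swallowing the centre, inside a bigger group -/
theorem Two.translate (T : Two p s r q R W L) {P : Subgroup G} (hP : IsPGroup p P) {x : G} (hxP : x ∈ P)
    (hxo : orderOf x = p) (hxc : ∀ y ∈ P, Commute x y)
    (hxR : ∀ v ∈ R, Commute x v → v = 1) (hxW : ∀ w ∈ W, Commute x w → w = 1)
    (hZ : ∀ y ∈ P, orderOf y = p → (∀ u ∈ P, Commute y u) → y ∈ zpowers x) (hu : ¬ Uniq p P) : False := by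
  haveI := Fact.mk T.hp; haveI := Fact.mk T.hr; haveI := Fact.mk T.hq
  obtain ⟨E, hEP, hE⟩ := exists_rk2_of_not_uniq hP hu
  obtain ⟨z0, hz0, hz0x⟩ := hE.exists_not_mem x
  obtain ⟨z, hzP, hzo, hzx, hconj⟩ := exists_translate_conj hP hxP hxo hxc hZ
    ⟨z0, hEP hz0, hE.orderOf_eq hz0 fun e => hz0x (by rw [e]; exact one_mem _), hz0x⟩
  suffices key : ∀ {r' : ℕ} (R' : Subgroup G), r'.Prime → p ≠ r' → IsPGroup r' R' → R'.Normal → R' ≠ ⊥ →
      (∀ v ∈ R', Commute x v → v = 1) → ∃ v ∈ R', v ≠ 1 ∧ Commute z v by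
    obtain ⟨v, hv, hv1, hzv⟩ := key R T.hr T.pr T.gR T.nR T.R0 hxR
    obtain ⟨w, hw, hw1, hzw⟩ := key W T.hq T.pq T.gW T.nW T.W0 hxW
    exact T.nofix hzo hv hv1 hw hw1 hzv hzw
  intro r' R' hr' hpr hR' hR'n hR'0 hxR'
  haveI := Fact.mk hr'; haveI := hR'n
  obtain ⟨a, haE, ha1, v, hv, hv1, hav⟩ := exists_fix hpr (rk2_pair hxo hzo (hxc z hzP) hzx) le_normalizer_of_normal
    hR' hR'0
  have hnorm : zpowers z ≤ normalizer (zpowers x : Set G) := zpowers_le.2 (mem_normalizer_zpowers (by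
    rw [← (hxc z hzP).eq]; simp))
  have ha' : a ∈ zpowers x ⊔ zpowers z := by
    refine (closure_le _).2 ?_ haE
    rintro w (rfl | rfl)
    exacts [mem_sup_left (mem_zpowers _), mem_sup_right (mem_zpowers _)]
  obtain ⟨u, hu, w, hw, rfl⟩ := (Cfsg.Lib.Coprime.mem_sup_of_le_normalizer hnorm).1 ha'
  have hw1 : w ≠ 1 := fun e => by
    subst e
    rw [mul_one] at ha1 hav
    exact hv1 (hxR' v hv (commute_zpow_of_mem hav.symm (eq_zpowers_of_mem hu hxo ha1).2).symm)
  obtain ⟨m, hm⟩ := mem_zpowers_iff.1 (eq_zpowers_of_mem hw hzo hw1).2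
  classical
  obtain ⟨i, hi⟩ : ∃ i : ℕ, x ^ i = u ^ m := by
    have h := mem_zpowers_iff_mem_range_orderOf.1 (zpow_mem hu m : u ^ m ∈ zpowers x)
    simp only [Finset.mem_image, Finset.mem_range] at h
    obtain ⟨i, -, hi⟩ := h
    exact ⟨i, hi⟩
  obtain ⟨g, -, hg⟩ := hconj i
  have hpow : (u * w) ^ m = g * z * g⁻¹ := by
    rw [hg, hi, ← hm]
    exact (commute_zpow_of_mem (commute_zpow_of_mem (hxc z hzP) hw).symm hu).symm.mul_zpow m
  refine ⟨g⁻¹ * v * g, ?_, fun e => hv1 ?_, ?_⟩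
  · simpa using hR'n.conj_mem v hv g⁻¹
  · calc v = g * (g⁻¹ * v * g) * g⁻¹ := by group
      _ = 1 := by rw [e]; group
  · have h := (hpow ▸ hav.zpow_left m : Commute (g * z * g⁻¹) v).map (MulAut.conj g⁻¹).toMonoidHom
    simpa [mul_assoc] using h

theorem Two.uniq_core (T : Two p s r q R W L) : Uniq p (core p L) := by
  haveI := Fact.mk T.hp; haveI := Fact.mk T.hs; haveI := Fact.mk T.hr; haveI := Fact.mk T.hq
  haveI := T.nR
  by_contra hu
  obtain ⟨E, hEL, hE⟩ := T.pair.rks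
  set P := core p L
  have hEA : E ≤ normalizer (omZ p P : Set G) := fun e he =>
    omZ_normalizer p P (core_le_normalizer p L (le_normalizer (hEL he)))
  obtain ⟨-, hfpf⟩ := T.central hE (omZ_isPGroup p P) (omZ_comm p P) hEA
  by_cases hZu : Uniq p (omZ p P)
  · obtain ⟨x, hx, hxo, hxc⟩ := exists_center_order (core_isPGroup p L) fun e => hu (fun a ha b hb hao _ => by
      rw [show P = ⊥ from e, mem_bot] at ha
      rw [ha, orderOf_one] at hao
      exact absurd hao.symm T.hp.ne_one)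
    have hxA : x ∈ omZ p P := ⟨hx, by rw [← hxo, pow_orderOf_eq_one], hxc⟩
    exact T.translate (core_isPGroup p L) hx hxo hxc (hfpf x hxA hxo).1 (hfpf x hxA hxo).2
      (fun y hy hyo hyc => hZu x hxA y ⟨hy, by rw [← hyo, pow_orderOf_eq_one], hyc⟩ hxo hyo) hu
  · obtain ⟨A, hAle, hA⟩ := exists_rk2_of_not_uniq (omZ_isPGroup p P) hZu
    obtain ⟨a, ha, ha1, v, hv, hv1, hav⟩ := exists_fix (V := R) T.pr hA le_normalizer_of_normal T.gR T.R0
    exact hv1 ((hfpf a (hAle ha) (hA.orderOf_eq ha ha1)).1 v hv hav)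

theorem conj_mem_zpowers {t : ℕ} [ht : Fact t.Prime] {C : Subgroup G} (hC : Uniq t C) {x g : G} (hx : x ∈ C)
    (hxo : orderOf x = t) (hg : g ∈ normalizer (C : Set G)) : g ∈ normalizer (zpowers x : Set G) :=
  mem_normalizer_zpowers (hC x hx _ ((mem_normalizer_iff.1 hg x).1 hx) hxo
    ((orderOf_injective (MulAut.conj g).toMonoidHom (MulAut.conj g).injective x).trans hxo))

theorem Two.false_of_lt (T : Two p s r q R W L) (hsp : s < p) : False := by
  haveI := Fact.mk T.hp; haveI := Fact.mk T.hs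
  haveI := T.cond.sol
  obtain ⟨E, hEL, hE⟩ := T.pair.rks
  obtain ⟨E', hE'L, hE'⟩ := T.pair.rkp
  obtain ⟨S, hSL, hS, hES, hcS⟩ := exists_sylow_in hE.isPGroup hEL
  have hup := T.uniq_core
  have hus := T.symmP.uniq_core
  have key : ∀ y ∈ S, orderOf y = s → (∀ u ∈ S, Commute y u) → y ∈ core s L := fun y hy hyo hyc => by
    refine mem_core_of_centralizes (hSL hy) (isPGroup_zpowers hyo) fun t ht c hc => ?_
    haveI := Fact.mk ht
    by_cases hd : t ∣ Nat.card L
    swap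
    · rw [core_eq_bot_of_not_dvd hd, mem_bot] at hc
      rw [hc]
      exact Commute.one_right y
    rcases T.pair.primes t ht hd with rfl | rfl
    · by_cases h0 : core t L = ⊥
      · rw [h0, mem_bot] at hc
        rw [hc]
        exact Commute.one_right y
      have hp2 : t ≠ 2 := by have := T.hs.two_le; omega
      haveI := hup.isCyclic (core_isPGroup t L) hp2
      obtain ⟨x, hx, hxo⟩ := exists_order_of_ne_bot (core_isPGroup t L) h0
      have hnorm : ∀ g ∈ L, g ∈ normalizer (zpowers x : Set G) := fun g hg =>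
        conj_mem_zpowers hup hx hxo (core_le_normalizer t L (le_normalizer hg))
      have hyx := (T.central hE (isPGroup_zpowers hxo) (zpowers_comm x) fun e he => hnorm e (hEL he)).1 y hyo
        (hnorm y (hSL hy)) x (mem_zpowers x)
      exact commute_cyclic_of_fix T.ps.symm (core_isPGroup t L) hyo (core_le_normalizer t L (le_normalizer (hSL hy))) hx
        (fun e => T.hp.ne_one (by rw [← hxo, e, orderOf_one])) hyx c hc
    · exact hyc c (hcS hc)
  obtain ⟨d, hdS, hdo, hdc⟩ := exists_center_order hS fun e => hE.ne_bot (le_bot_iff.1 (e ▸ hES))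
  have hd := key d hdS hdo hdc
  have hnorm : ∀ g ∈ L, g ∈ normalizer (zpowers d : Set G) := fun g hg =>
    conj_mem_zpowers hus hd hdo (core_le_normalizer s L (le_normalizer hg))
  obtain ⟨hR', hW'⟩ := (T.symmP.central hE' (isPGroup_zpowers hdo) (zpowers_comm d) fun e he => hnorm e (hE'L he)).2 d
    (mem_zpowers d) hdo
  exact T.symmP.translate hS hdS hdo hdc hR' hW' (fun y hy hyo hyc => hus d hd y (key y hy hyo hyc) hdo hyo)
    (hE.not_uniq hES)

/-- two layers are impossible -/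
theorem Two.false (T : Two p s r q R W L) : False := by
  rcases lt_or_gt_of_ne T.ps with h | h
  exacts [T.symmP.false_of_lt h, T.false_of_lt h]

end Cfsg.Lib.FourPrimes
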